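import Cfsg.Agent.Lib.TC.D.Fi24b.Tab
import Cfsg.Agent.Lib.TC.D.Fi24b.C0
import Cfsg.Agent.Lib.TC.D.Fi24b.C1
import Cfsg.Agent.Lib.TC.D.Fi24b.C2
import Cfsg.Agent.Lib.TC.D.Fi24b.C3
import Cfsg.Agent.Lib.TC.D.Fi24b.C4
import Cfsg.Agent.Lib.TC.D.Fi24b.C5
import Cfsg.Agent.Lib.TC.D.Fi24b.C6
import Cfsg.Agent.Lib.TC.D.Fi24b.C7
import Cfsg.Agent.Lib.TC.D.Fi24b.C8
import Cfsg.Agent.Lib.TC.D.Fi24b.C9
import Cfsg.Agent.Lib.TC.D.Fi24b.C10
import Cfsg.Agent.Lib.TC.D.Fi24b.C11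
import Cfsg.Agent.Lib.TC.D.Fi24b.C12
import Cfsg.Agent.Lib.TC.D.Fi24b.C13
import Cfsg.Agent.Lib.TC.D.Fi24b.C14
import Cfsg.Agent.Lib.TC.D.Fi24b.C15
import Cfsg.Agent.Lib.TC.D.Fi24b.C16
import Cfsg.Agent.Lib.TC.D.Fi24b.C17
import Cfsg.Agent.Lib.TC.D.Fi24b.C18
import Cfsg.Agent.Lib.TC.D.Fi24b.C19
import Cfsg.Agent.Lib.TC.D.Fi24b.C20
import Cfsg.Agent.Lib.TC.D.Fi24b.C21
import Cfsg.Agent.Lib.TC.D.Fi24b.C22
import Cfsg.Agent.Lib.TC.D.Fi24b.C23
import Cfsg.Agent.Lib.TC.D.Fi24b.C24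
import Cfsg.Agent.Lib.TC.D.Fi24b.C25
import Cfsg.Agent.Lib.TC.D.Fi24b.C26
import Cfsg.Agent.Lib.TC.D.Fi24b.C27
import Cfsg.Agent.Lib.TC.D.Fi24b.C28
import Cfsg.Agent.Lib.TC.D.Fi24b.C29
import Cfsg.Agent.Lib.TC.D.Fi24b.C30
import Cfsg.Agent.Lib.TC.D.Fi24b.C31
import Cfsg.Agent.Lib.TC.D.Fi24b.C32
import Cfsg.Agent.Lib.TC.D.Fi24b.C33
import Cfsg.Agent.Lib.TC.D.Fi24b.C34
import Cfsg.Agent.Lib.TC.D.Fi24b.C35
import Cfsg.Agent.Lib.TC.D.Fi24b.C36
import Cfsg.Agent.Lib.TC.D.Fi24b.C37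
import Cfsg.Agent.Lib.TC.D.Fi24b.C38
import Cfsg.Agent.Lib.TC.D.Fi24b.C39
import Cfsg.Agent.Lib.TC.D.Fi24b.C40
import Cfsg.Agent.Lib.TC.D.Fi24b.C41
import Cfsg.Agent.Lib.TC.D.Fi24b.C42
import Cfsg.Agent.Lib.TC.D.Fi24b.C43
import Cfsg.Agent.Lib.TC.D.Fi24b.C44
import Cfsg.Agent.Lib.TC.D.Fi24b.C45
import Cfsg.Agent.Lib.TC.D.Fi24b.C46
import Cfsg.Agent.Lib.TC.D.Fi24b.C47
import Cfsg.Agent.Lib.TC.D.Fi24b.C48
import Cfsg.Agent.Lib.TC.D.Fi24b.C49
import Cfsg.Agent.Lib.TC.D.Fi24b.C50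
import Cfsg.Agent.Lib.TC.D.Fi24b.C51
import Cfsg.Agent.Lib.TC.D.Fi24b.C52
import Cfsg.Agent.Lib.TC.D.Fi24b.C53
import Cfsg.Agent.Lib.TC.D.Fi24b.C54
import Cfsg.Agent.Lib.TC.D.Fi24b.C55
import Cfsg.Agent.Lib.TC.D.Fi24b.C56
import Cfsg.Agent.Lib.TC.D.Fi24b.C57
import Cfsg.Agent.Lib.TC.D.Fi24b.C58
import Cfsg.Agent.Lib.TC.D.Fi24b.C59
import Cfsg.Agent.Lib.TC.D.Fi24b.C60
import Cfsg.Agent.Lib.TC.D.Fi24b.C61
import Cfsg.Agent.Lib.TC.D.Fi24b.C62
import Cfsg.Agent.Lib.TC.D.Fi24b.C63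
import Cfsg.Agent.Lib.TC.D.Fi24b.C64
import Cfsg.Agent.Lib.TC.D.Fi24b.C65
import Cfsg.Agent.Lib.TC.D.Fi24b.C66
import Cfsg.Agent.Lib.TC.D.Fi24b.C67
import Cfsg.Agent.Lib.TC.D.Fi24b.C68
import Cfsg.Agent.Lib.TC.D.Fi24b.C69
import Cfsg.Agent.Lib.TC.D.Fi24b.C70
import Cfsg.Agent.Lib.TC.D.Fi24b.C71
import Cfsg.Agent.Lib.TC.D.Fi24b.C72
import Cfsg.Agent.Lib.TC.D.Fi24b.C73
import Cfsg.Agent.Lib.TC.D.Fi24b.C74
import Cfsg.Agent.Lib.TC.D.Fi24b.C75
import Cfsg.Agent.Lib.TC.D.Fi24b.C76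
import Cfsg.Agent.Lib.TC.D.Fi24b.C77
import Cfsg.Agent.Lib.TC.D.Fi24b.C78
import Cfsg.Agent.Lib.TC.D.Fi24b.C79
import Cfsg.Agent.Lib.TC.D.Fi24b.C80
import Cfsg.Agent.Lib.TC.D.Fi24b.C81
import Cfsg.Agent.Lib.TC.D.Fi24b.C82
import Cfsg.Agent.Lib.TC.D.Fi24b.C83
import Cfsg.Agent.Lib.TC.D.Fi24b.C84
import Cfsg.Agent.Lib.TC.D.Fi24b.C85
import Cfsg.Agent.Lib.TC.D.Fi24b.C86
import Cfsg.Agent.Lib.TC.D.Fi24b.C87
import Cfsg.Agent.Lib.TC.D.Fi24b.C88
import Cfsg.Agent.Lib.TC.D.Fi24b.C89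
import Cfsg.Agent.Lib.TC.D.Fi24b.C90
import Cfsg.Agent.Lib.TC.D.Fi24b.C91
import Cfsg.Agent.Lib.TC.D.Fi24b.C92
import Cfsg.Agent.Lib.TC.D.Fi24b.C93
import Cfsg.Agent.Lib.TC.D.Fi24b.C94
import Cfsg.Agent.Lib.TC.D.Fi24b.C95
import Cfsg.Agent.Lib.TC.D.Fi24b.C96
import Cfsg.Agent.Lib.TC.D.Fi24b.C97
import Cfsg.Agent.Lib.TC.D.Fi24b.C98
import Cfsg.Agent.Lib.TC.D.Fi24b.C99
import Cfsg.Agent.Lib.TC.D.Fi24b.C100
import Cfsg.Agent.Lib.TC.D.Fi24b.C101
import Cfsg.Agent.Lib.TC.D.Fi24b.C102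
import Cfsg.Agent.Lib.TC.D.Fi24b.C103
import Cfsg.Agent.Lib.TC.D.Fi24b.C104
import Cfsg.Agent.Lib.TC.D.Fi24b.C105
import Cfsg.Agent.Lib.TC.D.Fi24b.C106
import Cfsg.Agent.Lib.TC.D.Fi24b.C107
import Cfsg.Agent.Lib.TC.D.Fi24b.C108
import Cfsg.Agent.Lib.TC.D.Fi24b.C109
import Cfsg.Agent.Lib.TC.D.Fi24b.C110
import Cfsg.Agent.Lib.TC.D.Fi24b.C111
import Cfsg.Agent.Lib.TC.D.Fi24b.C112
import Cfsg.Agent.Lib.TC.D.Fi24b.C113
import Cfsg.Agent.Lib.TC.D.Fi24b.C114
import Cfsg.Agent.Lib.TC.D.Fi24b.C115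
import Cfsg.Agent.Lib.TC.D.Fi24b.C116
import Cfsg.Agent.Lib.TC.D.Fi24b.C117
import Cfsg.Agent.Lib.TC.D.Fi24b.C118
import Cfsg.Agent.Lib.TC.D.Fi24b.C119
import Cfsg.Agent.Lib.TC.D.Fi24b.C120
import Cfsg.Agent.Lib.TC.D.Fi24b.C121
import Cfsg.Agent.Lib.TC.D.Fi24b.C122
import Cfsg.Agent.Lib.TC.D.Fi24b.C123
import Cfsg.Agent.Lib.TC.D.Fi24b.C124
import Cfsg.Agent.Lib.TC.D.Fi24b.C125
import Cfsg.Agent.Lib.TC.D.Fi24b.C126
import Cfsg.Agent.Lib.TC.D.Fi24b.C127
import Cfsg.Agent.Lib.TC.D.Fi24b.C128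
import Cfsg.Agent.Lib.TC.D.Fi24b.C129
import Cfsg.Agent.Lib.TC.D.Fi24b.C130
import Cfsg.Agent.Lib.TC.D.Fi24b.C131
import Cfsg.Agent.Lib.TC.D.Fi24b.C132
import Cfsg.Agent.Lib.TC.D.Fi24b.C133
import Cfsg.Agent.Lib.TC.D.Fi24b.C134
import Cfsg.Agent.Lib.TC.D.Fi24b.C135
import Cfsg.Agent.Lib.TC.D.Fi24b.C136
import Cfsg.Agent.Lib.TC.D.Fi24b.C137
import Cfsg.Agent.Lib.TC.D.Fi24b.C138
import Cfsg.Agent.Lib.TC.D.Fi24b.C139
import Cfsg.Agent.Lib.TC.D.Fi24b.F0
import Cfsg.Agent.Lib.TC.D.Fi24b.F1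
import Cfsg.Agent.Lib.TC.D.Fi24b.F2
import Cfsg.Agent.Lib.TC.D.Fi24b.F3
import Cfsg.Agent.Lib.TC.D.Fi24b.F4
import Cfsg.Agent.Lib.TC.D.Fi24b.F5
import Cfsg.Agent.Lib.TC.D.Fi24b.F6
import Cfsg.Agent.Lib.TC.D.Fi24b.F7
import Cfsg.Agent.Lib.TC.D.Fi24b.F8
import Cfsg.Agent.Lib.TC.D.Fi24b.F9
import Cfsg.Agent.Lib.TC.D.Fi24b.F10
import Cfsg.Agent.Lib.TC.D.Fi24b.F11
import Cfsg.Agent.Lib.TC.D.Fi24b.F12
import Cfsg.Agent.Lib.TC.D.Fi24b.F13
import Cfsg.Agent.Lib.TC.D.Fi24b.F14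
import Cfsg.Agent.Lib.TC.D.Fi24b.F15
import Cfsg.Agent.Lib.TC.D.Fi24b.F16
import Cfsg.Agent.Lib.TC.D.Fi24b.F17
import Cfsg.Agent.Lib.TC.D.Fi24b.F18
import Cfsg.Agent.Lib.TC.D.Fi24b.F19
import Cfsg.Agent.Lib.TC.D.Fi24b.F20
import Cfsg.Agent.Lib.TC.D.Fi24b.F21
import Cfsg.Agent.Lib.TC.D.Fi24b.F22
import Cfsg.Agent.Lib.TC.D.Fi24b.F23
import Cfsg.Agent.Lib.TC.D.Fi24b.F24
import Cfsg.Agent.Lib.TC.D.Fi24b.F25
import Cfsg.Agent.Lib.TC.D.Fi24b.F26
import Cfsg.Agent.Lib.TC.D.Fi24b.F27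
import Cfsg.Agent.Lib.TC.D.Fi24b.F28
import Cfsg.Agent.Lib.TC.D.Fi24b.F29
import Cfsg.Agent.Lib.TC.D.Fi24b.F30
import Cfsg.Agent.Lib.TC.D.Fi24b.F31
import Cfsg.Agent.Lib.TC.D.Fi24b.F32
import Cfsg.Agent.Lib.TC.D.Fi24b.F33
import Cfsg.Agent.Lib.TC.D.Fi24b.F34
import Cfsg.Agent.Lib.TC.D.Fi24b.F35
import Cfsg.Agent.Lib.TC.D.Fi24b.F36
import Cfsg.Agent.Lib.TC.D.Fi24b.F37
import Cfsg.Agent.Lib.TC.D.Fi24b.F38
import Cfsg.Agent.Lib.TC.D.Fi24b.F39

namespace Cfsg.Agent.Lib.TC.D.Fi24b.Ok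

open Cfsg.Agent.Lib.TC.Core Cfsg.Agent.Lib.TC.Enc Cfsg.Agent.Lib.TC.Pres

set_option maxRecDepth 100000

open Cfsg.Agent.Lib.TC.D.Fi24b.Tab

theorem allC0 : cert.chkRange 0 2654 = true := Cfsg.Agent.Lib.TC.D.Fi24b.C0.ok
theorem allC1 : cert.chkRange 0 5323 = true := Cert.chkRange_join (lo := 0) (a := 2654) (b := 2669) _ allC0 Cfsg.Agent.Lib.TC.D.Fi24b.C1.ok
theorem allC2 : cert.chkRange 0 8000 = true := Cert.chkRange_join (lo := 0) (a := 5323) (b := 2677) _ allC1 Cfsg.Agent.Lib.TC.D.Fi24b.C2.ok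
theorem allC3 : cert.chkRange 0 11132 = true := Cert.chkRange_join (lo := 0) (a := 8000) (b := 3132) _ allC2 Cfsg.Agent.Lib.TC.D.Fi24b.C3.ok
theorem allC4 : cert.chkRange 0 13885 = true := Cert.chkRange_join (lo := 0) (a := 11132) (b := 2753) _ allC3 Cfsg.Agent.Lib.TC.D.Fi24b.C4.ok
theorem allC5 : cert.chkRange 0 16602 = true := Cert.chkRange_join (lo := 0) (a := 13885) (b := 2717) _ allC4 Cfsg.Agent.Lib.TC.D.Fi24b.C5.ok
theorem allC6 : cert.chkRange 0 19287 = true := Cert.chkRange_join (lo := 0) (a := 16602) (b := 2685) _ allC5 Cfsg.Agent.Lib.TC.D.Fi24b.C6.ok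
theorem allC7 : cert.chkRange 0 22007 = true := Cert.chkRange_join (lo := 0) (a := 19287) (b := 2720) _ allC6 Cfsg.Agent.Lib.TC.D.Fi24b.C7.ok
theorem allC8 : cert.chkRange 0 24692 = true := Cert.chkRange_join (lo := 0) (a := 22007) (b := 2685) _ allC7 Cfsg.Agent.Lib.TC.D.Fi24b.C8.ok
theorem allC9 : cert.chkRange 0 27441 = true := Cert.chkRange_join (lo := 0) (a := 24692) (b := 2749) _ allC8 Cfsg.Agent.Lib.TC.D.Fi24b.C9.ok
theorem allC10 : cert.chkRange 0 30118 = true := Cert.chkRange_join (lo := 0) (a := 27441) (b := 2677) _ allC9 Cfsg.Agent.Lib.TC.D.Fi24b.C10.ok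
theorem allC11 : cert.chkRange 0 32821 = true := Cert.chkRange_join (lo := 0) (a := 30118) (b := 2703) _ allC10 Cfsg.Agent.Lib.TC.D.Fi24b.C11.ok
theorem allC12 : cert.chkRange 0 35592 = true := Cert.chkRange_join (lo := 0) (a := 32821) (b := 2771) _ allC11 Cfsg.Agent.Lib.TC.D.Fi24b.C12.ok
theorem allC13 : cert.chkRange 0 38290 = true := Cert.chkRange_join (lo := 0) (a := 35592) (b := 2698) _ allC12 Cfsg.Agent.Lib.TC.D.Fi24b.C13.ok
theorem allC14 : cert.chkRange 0 40961 = true := Cert.chkRange_join (lo := 0) (a := 38290) (b := 2671) _ allC13 Cfsg.Agent.Lib.TC.D.Fi24b.C14.ok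
theorem allC15 : cert.chkRange 0 43674 = true := Cert.chkRange_join (lo := 0) (a := 40961) (b := 2713) _ allC14 Cfsg.Agent.Lib.TC.D.Fi24b.C15.ok
theorem allC16 : cert.chkRange 0 46445 = true := Cert.chkRange_join (lo := 0) (a := 43674) (b := 2771) _ allC15 Cfsg.Agent.Lib.TC.D.Fi24b.C16.ok
theorem allC17 : cert.chkRange 0 49191 = true := Cert.chkRange_join (lo := 0) (a := 46445) (b := 2746) _ allC16 Cfsg.Agent.Lib.TC.D.Fi24b.C17.ok
theorem allC18 : cert.chkRange 0 51896 = true := Cert.chkRange_join (lo := 0) (a := 49191) (b := 2705) _ allC17 Cfsg.Agent.Lib.TC.D.Fi24b.C18.ok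
theorem allC19 : cert.chkRange 0 54569 = true := Cert.chkRange_join (lo := 0) (a := 51896) (b := 2673) _ allC18 Cfsg.Agent.Lib.TC.D.Fi24b.C19.ok
theorem allC20 : cert.chkRange 0 57235 = true := Cert.chkRange_join (lo := 0) (a := 54569) (b := 2666) _ allC19 Cfsg.Agent.Lib.TC.D.Fi24b.C20.ok
theorem allC21 : cert.chkRange 0 59977 = true := Cert.chkRange_join (lo := 0) (a := 57235) (b := 2742) _ allC20 Cfsg.Agent.Lib.TC.D.Fi24b.C21.ok
theorem allC22 : cert.chkRange 0 62748 = true := Cert.chkRange_join (lo := 0) (a := 59977) (b := 2771) _ allC21 Cfsg.Agent.Lib.TC.D.Fi24b.C22.ok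
theorem allC23 : cert.chkRange 0 65516 = true := Cert.chkRange_join (lo := 0) (a := 62748) (b := 2768) _ allC22 Cfsg.Agent.Lib.TC.D.Fi24b.C23.ok
theorem allC24 : cert.chkRange 0 68246 = true := Cert.chkRange_join (lo := 0) (a := 65516) (b := 2730) _ allC23 Cfsg.Agent.Lib.TC.D.Fi24b.C24.ok
theorem allC25 : cert.chkRange 0 70961 = true := Cert.chkRange_join (lo := 0) (a := 68246) (b := 2715) _ allC24 Cfsg.Agent.Lib.TC.D.Fi24b.C25.ok
theorem allC26 : cert.chkRange 0 73652 = true := Cert.chkRange_join (lo := 0) (a := 70961) (b := 2691) _ allC25 Cfsg.Agent.Lib.TC.D.Fi24b.C26.ok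
theorem allC27 : cert.chkRange 0 76318 = true := Cert.chkRange_join (lo := 0) (a := 73652) (b := 2666) _ allC26 Cfsg.Agent.Lib.TC.D.Fi24b.C27.ok
theorem allC28 : cert.chkRange 0 78978 = true := Cert.chkRange_join (lo := 0) (a := 76318) (b := 2660) _ allC27 Cfsg.Agent.Lib.TC.D.Fi24b.C28.ok
theorem allC29 : cert.chkRange 0 81719 = true := Cert.chkRange_join (lo := 0) (a := 78978) (b := 2741) _ allC28 Cfsg.Agent.Lib.TC.D.Fi24b.C29.ok
theorem allC30 : cert.chkRange 0 84448 = true := Cert.chkRange_join (lo := 0) (a := 81719) (b := 2729) _ allC29 Cfsg.Agent.Lib.TC.D.Fi24b.C30.ok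
theorem allC31 : cert.chkRange 0 87254 = true := Cert.chkRange_join (lo := 0) (a := 84448) (b := 2806) _ allC30 Cfsg.Agent.Lib.TC.D.Fi24b.C31.ok
theorem allC32 : cert.chkRange 0 90024 = true := Cert.chkRange_join (lo := 0) (a := 87254) (b := 2770) _ allC31 Cfsg.Agent.Lib.TC.D.Fi24b.C32.ok
theorem allC33 : cert.chkRange 0 92781 = true := Cert.chkRange_join (lo := 0) (a := 90024) (b := 2757) _ allC32 Cfsg.Agent.Lib.TC.D.Fi24b.C33.ok
theorem allC34 : cert.chkRange 0 95476 = true := Cert.chkRange_join (lo := 0) (a := 92781) (b := 2695) _ allC33 Cfsg.Agent.Lib.TC.D.Fi24b.C34.ok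
theorem allC35 : cert.chkRange 0 98198 = true := Cert.chkRange_join (lo := 0) (a := 95476) (b := 2722) _ allC34 Cfsg.Agent.Lib.TC.D.Fi24b.C35.ok
theorem allC36 : cert.chkRange 0 100892 = true := Cert.chkRange_join (lo := 0) (a := 98198) (b := 2694) _ allC35 Cfsg.Agent.Lib.TC.D.Fi24b.C36.ok
theorem allC37 : cert.chkRange 0 103582 = true := Cert.chkRange_join (lo := 0) (a := 100892) (b := 2690) _ allC36 Cfsg.Agent.Lib.TC.D.Fi24b.C37.ok
theorem allC38 : cert.chkRange 0 106244 = true := Cert.chkRange_join (lo := 0) (a := 103582) (b := 2662) _ allC37 Cfsg.Agent.Lib.TC.D.Fi24b.C38.ok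
theorem allC39 : cert.chkRange 0 108887 = true := Cert.chkRange_join (lo := 0) (a := 106244) (b := 2643) _ allC38 Cfsg.Agent.Lib.TC.D.Fi24b.C39.ok
theorem allC40 : cert.chkRange 0 111618 = true := Cert.chkRange_join (lo := 0) (a := 108887) (b := 2731) _ allC39 Cfsg.Agent.Lib.TC.D.Fi24b.C40.ok
theorem allC41 : cert.chkRange 0 114377 = true := Cert.chkRange_join (lo := 0) (a := 111618) (b := 2759) _ allC40 Cfsg.Agent.Lib.TC.D.Fi24b.C41.ok
theorem allC42 : cert.chkRange 0 117092 = true := Cert.chkRange_join (lo := 0) (a := 114377) (b := 2715) _ allC41 Cfsg.Agent.Lib.TC.D.Fi24b.C42.ok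
theorem allC43 : cert.chkRange 0 120292 = true := Cert.chkRange_join (lo := 0) (a := 117092) (b := 3200) _ allC42 Cfsg.Agent.Lib.TC.D.Fi24b.C43.ok
theorem allC44 : cert.chkRange 0 123741 = true := Cert.chkRange_join (lo := 0) (a := 120292) (b := 3449) _ allC43 Cfsg.Agent.Lib.TC.D.Fi24b.C44.ok
theorem allC45 : cert.chkRange 0 127613 = true := Cert.chkRange_join (lo := 0) (a := 123741) (b := 3872) _ allC44 Cfsg.Agent.Lib.TC.D.Fi24b.C45.ok
theorem allC46 : cert.chkRange 0 131439 = true := Cert.chkRange_join (lo := 0) (a := 127613) (b := 3826) _ allC45 Cfsg.Agent.Lib.TC.D.Fi24b.C46.ok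
theorem allC47 : cert.chkRange 0 134648 = true := Cert.chkRange_join (lo := 0) (a := 131439) (b := 3209) _ allC46 Cfsg.Agent.Lib.TC.D.Fi24b.C47.ok
theorem allC48 : cert.chkRange 0 137732 = true := Cert.chkRange_join (lo := 0) (a := 134648) (b := 3084) _ allC47 Cfsg.Agent.Lib.TC.D.Fi24b.C48.ok
theorem allC49 : cert.chkRange 0 141804 = true := Cert.chkRange_join (lo := 0) (a := 137732) (b := 4072) _ allC48 Cfsg.Agent.Lib.TC.D.Fi24b.C49.ok
theorem allC50 : cert.chkRange 0 145836 = true := Cert.chkRange_join (lo := 0) (a := 141804) (b := 4032) _ allC49 Cfsg.Agent.Lib.TC.D.Fi24b.C50.ok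
theorem allC51 : cert.chkRange 0 150021 = true := Cert.chkRange_join (lo := 0) (a := 145836) (b := 4185) _ allC50 Cfsg.Agent.Lib.TC.D.Fi24b.C51.ok
theorem allC52 : cert.chkRange 0 153772 = true := Cert.chkRange_join (lo := 0) (a := 150021) (b := 3751) _ allC51 Cfsg.Agent.Lib.TC.D.Fi24b.C52.ok
theorem allC53 : cert.chkRange 0 157631 = true := Cert.chkRange_join (lo := 0) (a := 153772) (b := 3859) _ allC52 Cfsg.Agent.Lib.TC.D.Fi24b.C53.ok
theorem allC54 : cert.chkRange 0 161853 = true := Cert.chkRange_join (lo := 0) (a := 157631) (b := 4222) _ allC53 Cfsg.Agent.Lib.TC.D.Fi24b.C54.ok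
theorem allC55 : cert.chkRange 0 164704 = true := Cert.chkRange_join (lo := 0) (a := 161853) (b := 2851) _ allC54 Cfsg.Agent.Lib.TC.D.Fi24b.C55.ok
theorem allC56 : cert.chkRange 0 167479 = true := Cert.chkRange_join (lo := 0) (a := 164704) (b := 2775) _ allC55 Cfsg.Agent.Lib.TC.D.Fi24b.C56.ok
theorem allC57 : cert.chkRange 0 170173 = true := Cert.chkRange_join (lo := 0) (a := 167479) (b := 2694) _ allC56 Cfsg.Agent.Lib.TC.D.Fi24b.C57.ok
theorem allC58 : cert.chkRange 0 172895 = true := Cert.chkRange_join (lo := 0) (a := 170173) (b := 2722) _ allC57 Cfsg.Agent.Lib.TC.D.Fi24b.C58.ok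
theorem allC59 : cert.chkRange 0 175535 = true := Cert.chkRange_join (lo := 0) (a := 172895) (b := 2640) _ allC58 Cfsg.Agent.Lib.TC.D.Fi24b.C59.ok
theorem allC60 : cert.chkRange 0 178279 = true := Cert.chkRange_join (lo := 0) (a := 175535) (b := 2744) _ allC59 Cfsg.Agent.Lib.TC.D.Fi24b.C60.ok
theorem allC61 : cert.chkRange 0 181139 = true := Cert.chkRange_join (lo := 0) (a := 178279) (b := 2860) _ allC60 Cfsg.Agent.Lib.TC.D.Fi24b.C61.ok
theorem allC62 : cert.chkRange 0 183927 = true := Cert.chkRange_join (lo := 0) (a := 181139) (b := 2788) _ allC61 Cfsg.Agent.Lib.TC.D.Fi24b.C62.ok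
theorem allC63 : cert.chkRange 0 186641 = true := Cert.chkRange_join (lo := 0) (a := 183927) (b := 2714) _ allC62 Cfsg.Agent.Lib.TC.D.Fi24b.C63.ok
theorem allC64 : cert.chkRange 0 189381 = true := Cert.chkRange_join (lo := 0) (a := 186641) (b := 2740) _ allC63 Cfsg.Agent.Lib.TC.D.Fi24b.C64.ok
theorem allC65 : cert.chkRange 0 192065 = true := Cert.chkRange_join (lo := 0) (a := 189381) (b := 2684) _ allC64 Cfsg.Agent.Lib.TC.D.Fi24b.C65.ok
theorem allC66 : cert.chkRange 0 194711 = true := Cert.chkRange_join (lo := 0) (a := 192065) (b := 2646) _ allC65 Cfsg.Agent.Lib.TC.D.Fi24b.C66.ok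
theorem allC67 : cert.chkRange 0 197532 = true := Cert.chkRange_join (lo := 0) (a := 194711) (b := 2821) _ allC66 Cfsg.Agent.Lib.TC.D.Fi24b.C67.ok
theorem allC68 : cert.chkRange 0 200393 = true := Cert.chkRange_join (lo := 0) (a := 197532) (b := 2861) _ allC67 Cfsg.Agent.Lib.TC.D.Fi24b.C68.ok
theorem allC69 : cert.chkRange 0 203187 = true := Cert.chkRange_join (lo := 0) (a := 200393) (b := 2794) _ allC68 Cfsg.Agent.Lib.TC.D.Fi24b.C69.ok
theorem allC70 : cert.chkRange 0 205896 = true := Cert.chkRange_join (lo := 0) (a := 203187) (b := 2709) _ allC69 Cfsg.Agent.Lib.TC.D.Fi24b.C70.ok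
theorem allC71 : cert.chkRange 0 208626 = true := Cert.chkRange_join (lo := 0) (a := 205896) (b := 2730) _ allC70 Cfsg.Agent.Lib.TC.D.Fi24b.C71.ok
theorem allC72 : cert.chkRange 0 211321 = true := Cert.chkRange_join (lo := 0) (a := 208626) (b := 2695) _ allC71 Cfsg.Agent.Lib.TC.D.Fi24b.C72.ok
theorem allC73 : cert.chkRange 0 213948 = true := Cert.chkRange_join (lo := 0) (a := 211321) (b := 2627) _ allC72 Cfsg.Agent.Lib.TC.D.Fi24b.C73.ok
theorem allC74 : cert.chkRange 0 216770 = true := Cert.chkRange_join (lo := 0) (a := 213948) (b := 2822) _ allC73 Cfsg.Agent.Lib.TC.D.Fi24b.C74.ok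
theorem allC75 : cert.chkRange 0 219652 = true := Cert.chkRange_join (lo := 0) (a := 216770) (b := 2882) _ allC74 Cfsg.Agent.Lib.TC.D.Fi24b.C75.ok
theorem allC76 : cert.chkRange 0 222473 = true := Cert.chkRange_join (lo := 0) (a := 219652) (b := 2821) _ allC75 Cfsg.Agent.Lib.TC.D.Fi24b.C76.ok
theorem allC77 : cert.chkRange 0 225218 = true := Cert.chkRange_join (lo := 0) (a := 222473) (b := 2745) _ allC76 Cfsg.Agent.Lib.TC.D.Fi24b.C77.ok
theorem allC78 : cert.chkRange 0 227948 = true := Cert.chkRange_join (lo := 0) (a := 225218) (b := 2730) _ allC77 Cfsg.Agent.Lib.TC.D.Fi24b.C78.ok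
theorem allC79 : cert.chkRange 0 230684 = true := Cert.chkRange_join (lo := 0) (a := 227948) (b := 2736) _ allC78 Cfsg.Agent.Lib.TC.D.Fi24b.C79.ok
theorem allC80 : cert.chkRange 0 233351 = true := Cert.chkRange_join (lo := 0) (a := 230684) (b := 2667) _ allC79 Cfsg.Agent.Lib.TC.D.Fi24b.C80.ok
theorem allC81 : cert.chkRange 0 236012 = true := Cert.chkRange_join (lo := 0) (a := 233351) (b := 2661) _ allC80 Cfsg.Agent.Lib.TC.D.Fi24b.C81.ok
theorem allC82 : cert.chkRange 0 238879 = true := Cert.chkRange_join (lo := 0) (a := 236012) (b := 2867) _ allC81 Cfsg.Agent.Lib.TC.D.Fi24b.C82.ok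
theorem allC83 : cert.chkRange 0 241768 = true := Cert.chkRange_join (lo := 0) (a := 238879) (b := 2889) _ allC82 Cfsg.Agent.Lib.TC.D.Fi24b.C83.ok
theorem allC84 : cert.chkRange 0 244580 = true := Cert.chkRange_join (lo := 0) (a := 241768) (b := 2812) _ allC83 Cfsg.Agent.Lib.TC.D.Fi24b.C84.ok
theorem allC85 : cert.chkRange 0 247318 = true := Cert.chkRange_join (lo := 0) (a := 244580) (b := 2738) _ allC84 Cfsg.Agent.Lib.TC.D.Fi24b.C85.ok
theorem allC86 : cert.chkRange 0 250057 = true := Cert.chkRange_join (lo := 0) (a := 247318) (b := 2739) _ allC85 Cfsg.Agent.Lib.TC.D.Fi24b.C86.ok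
theorem allC87 : cert.chkRange 0 252796 = true := Cert.chkRange_join (lo := 0) (a := 250057) (b := 2739) _ allC86 Cfsg.Agent.Lib.TC.D.Fi24b.C87.ok
theorem allC88 : cert.chkRange 0 255461 = true := Cert.chkRange_join (lo := 0) (a := 252796) (b := 2665) _ allC87 Cfsg.Agent.Lib.TC.D.Fi24b.C88.ok
theorem allC89 : cert.chkRange 0 258080 = true := Cert.chkRange_join (lo := 0) (a := 255461) (b := 2619) _ allC88 Cfsg.Agent.Lib.TC.D.Fi24b.C89.ok
theorem allC90 : cert.chkRange 0 260927 = true := Cert.chkRange_join (lo := 0) (a := 258080) (b := 2847) _ allC89 Cfsg.Agent.Lib.TC.D.Fi24b.C90.ok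
theorem allC91 : cert.chkRange 0 263835 = true := Cert.chkRange_join (lo := 0) (a := 260927) (b := 2908) _ allC90 Cfsg.Agent.Lib.TC.D.Fi24b.C91.ok
theorem allC92 : cert.chkRange 0 266672 = true := Cert.chkRange_join (lo := 0) (a := 263835) (b := 2837) _ allC91 Cfsg.Agent.Lib.TC.D.Fi24b.C92.ok
theorem allC93 : cert.chkRange 0 269474 = true := Cert.chkRange_join (lo := 0) (a := 266672) (b := 2802) _ allC92 Cfsg.Agent.Lib.TC.D.Fi24b.C93.ok
theorem allC94 : cert.chkRange 0 272190 = true := Cert.chkRange_join (lo := 0) (a := 269474) (b := 2716) _ allC93 Cfsg.Agent.Lib.TC.D.Fi24b.C94.ok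
theorem allC95 : cert.chkRange 0 274918 = true := Cert.chkRange_join (lo := 0) (a := 272190) (b := 2728) _ allC94 Cfsg.Agent.Lib.TC.D.Fi24b.C95.ok
theorem allC96 : cert.chkRange 0 277634 = true := Cert.chkRange_join (lo := 0) (a := 274918) (b := 2716) _ allC95 Cfsg.Agent.Lib.TC.D.Fi24b.C96.ok
theorem allC97 : cert.chkRange 0 280276 = true := Cert.chkRange_join (lo := 0) (a := 277634) (b := 2642) _ allC96 Cfsg.Agent.Lib.TC.D.Fi24b.C97.ok
theorem allC98 : cert.chkRange 0 282901 = true := Cert.chkRange_join (lo := 0) (a := 280276) (b := 2625) _ allC97 Cfsg.Agent.Lib.TC.D.Fi24b.C98.ok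
theorem allC99 : cert.chkRange 0 285798 = true := Cert.chkRange_join (lo := 0) (a := 282901) (b := 2897) _ allC98 Cfsg.Agent.Lib.TC.D.Fi24b.C99.ok
theorem allC100 : cert.chkRange 0 288703 = true := Cert.chkRange_join (lo := 0) (a := 285798) (b := 2905) _ allC99 Cfsg.Agent.Lib.TC.D.Fi24b.C100.ok
theorem allC101 : cert.chkRange 0 291525 = true := Cert.chkRange_join (lo := 0) (a := 288703) (b := 2822) _ allC100 Cfsg.Agent.Lib.TC.D.Fi24b.C101.ok
theorem allC102 : cert.chkRange 0 294329 = true := Cert.chkRange_join (lo := 0) (a := 291525) (b := 2804) _ allC101 Cfsg.Agent.Lib.TC.D.Fi24b.C102.ok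
theorem allC103 : cert.chkRange 0 297030 = true := Cert.chkRange_join (lo := 0) (a := 294329) (b := 2701) _ allC102 Cfsg.Agent.Lib.TC.D.Fi24b.C103.ok
theorem allC104 : cert.chkRange 0 299744 = true := Cert.chkRange_join (lo := 0) (a := 297030) (b := 2714) _ allC103 Cfsg.Agent.Lib.TC.D.Fi24b.C104.ok
theorem allC105 : cert.chkRange 0 302441 = true := Cert.chkRange_join (lo := 0) (a := 299744) (b := 2697) _ allC104 Cfsg.Agent.Lib.TC.D.Fi24b.C105.ok
theorem allC106 : cert.chkRange 0 305088 = true := Cert.chkRange_join (lo := 0) (a := 302441) (b := 2647) _ allC105 Cfsg.Agent.Lib.TC.D.Fi24b.C106.ok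
theorem allC107 : cert.chkRange 0 307682 = true := Cert.chkRange_join (lo := 0) (a := 305088) (b := 2594) _ allC106 Cfsg.Agent.Lib.TC.D.Fi24b.C107.ok
theorem allC108 : cert.chkRange 0 310536 = true := Cert.chkRange_join (lo := 0) (a := 307682) (b := 2854) _ allC107 Cfsg.Agent.Lib.TC.D.Fi24b.C108.ok
theorem allC109 : cert.chkRange 0 313450 = true := Cert.chkRange_join (lo := 0) (a := 310536) (b := 2914) _ allC108 Cfsg.Agent.Lib.TC.D.Fi24b.C109.ok
theorem allC110 : cert.chkRange 0 316279 = true := Cert.chkRange_join (lo := 0) (a := 313450) (b := 2829) _ allC109 Cfsg.Agent.Lib.TC.D.Fi24b.C110.ok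
theorem allC111 : cert.chkRange 0 319072 = true := Cert.chkRange_join (lo := 0) (a := 316279) (b := 2793) _ allC110 Cfsg.Agent.Lib.TC.D.Fi24b.C111.ok
theorem allC112 : cert.chkRange 0 321758 = true := Cert.chkRange_join (lo := 0) (a := 319072) (b := 2686) _ allC111 Cfsg.Agent.Lib.TC.D.Fi24b.C112.ok
theorem allC113 : cert.chkRange 0 324482 = true := Cert.chkRange_join (lo := 0) (a := 321758) (b := 2724) _ allC112 Cfsg.Agent.Lib.TC.D.Fi24b.C113.ok
theorem allC114 : cert.chkRange 0 327181 = true := Cert.chkRange_join (lo := 0) (a := 324482) (b := 2699) _ allC113 Cfsg.Agent.Lib.TC.D.Fi24b.C114.ok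
theorem allC115 : cert.chkRange 0 329811 = true := Cert.chkRange_join (lo := 0) (a := 327181) (b := 2630) _ allC114 Cfsg.Agent.Lib.TC.D.Fi24b.C115.ok
theorem allC116 : cert.chkRange 0 332382 = true := Cert.chkRange_join (lo := 0) (a := 329811) (b := 2571) _ allC115 Cfsg.Agent.Lib.TC.D.Fi24b.C116.ok
theorem allC117 : cert.chkRange 0 335186 = true := Cert.chkRange_join (lo := 0) (a := 332382) (b := 2804) _ allC116 Cfsg.Agent.Lib.TC.D.Fi24b.C117.ok
theorem allC118 : cert.chkRange 0 338103 = true := Cert.chkRange_join (lo := 0) (a := 335186) (b := 2917) _ allC117 Cfsg.Agent.Lib.TC.D.Fi24b.C118.ok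
theorem allC119 : cert.chkRange 0 340918 = true := Cert.chkRange_join (lo := 0) (a := 338103) (b := 2815) _ allC118 Cfsg.Agent.Lib.TC.D.Fi24b.C119.ok
theorem allC120 : cert.chkRange 0 343686 = true := Cert.chkRange_join (lo := 0) (a := 340918) (b := 2768) _ allC119 Cfsg.Agent.Lib.TC.D.Fi24b.C120.ok
theorem allC121 : cert.chkRange 0 346360 = true := Cert.chkRange_join (lo := 0) (a := 343686) (b := 2674) _ allC120 Cfsg.Agent.Lib.TC.D.Fi24b.C121.ok
theorem allC122 : cert.chkRange 0 349046 = true := Cert.chkRange_join (lo := 0) (a := 346360) (b := 2686) _ allC121 Cfsg.Agent.Lib.TC.D.Fi24b.C122.ok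
theorem allC123 : cert.chkRange 0 351699 = true := Cert.chkRange_join (lo := 0) (a := 349046) (b := 2653) _ allC122 Cfsg.Agent.Lib.TC.D.Fi24b.C123.ok
theorem allC124 : cert.chkRange 0 354247 = true := Cert.chkRange_join (lo := 0) (a := 351699) (b := 2548) _ allC123 Cfsg.Agent.Lib.TC.D.Fi24b.C124.ok
theorem allC125 : cert.chkRange 0 356959 = true := Cert.chkRange_join (lo := 0) (a := 354247) (b := 2712) _ allC124 Cfsg.Agent.Lib.TC.D.Fi24b.C125.ok
theorem allC126 : cert.chkRange 0 359856 = true := Cert.chkRange_join (lo := 0) (a := 356959) (b := 2897) _ allC125 Cfsg.Agent.Lib.TC.D.Fi24b.C126.ok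
theorem allC127 : cert.chkRange 0 362640 = true := Cert.chkRange_join (lo := 0) (a := 359856) (b := 2784) _ allC126 Cfsg.Agent.Lib.TC.D.Fi24b.C127.ok
theorem allC128 : cert.chkRange 0 365380 = true := Cert.chkRange_join (lo := 0) (a := 362640) (b := 2740) _ allC127 Cfsg.Agent.Lib.TC.D.Fi24b.C128.ok
theorem allC129 : cert.chkRange 0 368011 = true := Cert.chkRange_join (lo := 0) (a := 365380) (b := 2631) _ allC128 Cfsg.Agent.Lib.TC.D.Fi24b.C129.ok
theorem allC130 : cert.chkRange 0 370613 = true := Cert.chkRange_join (lo := 0) (a := 368011) (b := 2602) _ allC129 Cfsg.Agent.Lib.TC.D.Fi24b.C130.ok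
theorem allC131 : cert.chkRange 0 373189 = true := Cert.chkRange_join (lo := 0) (a := 370613) (b := 2576) _ allC130 Cfsg.Agent.Lib.TC.D.Fi24b.C131.ok
theorem allC132 : cert.chkRange 0 376010 = true := Cert.chkRange_join (lo := 0) (a := 373189) (b := 2821) _ allC131 Cfsg.Agent.Lib.TC.D.Fi24b.C132.ok
theorem allC133 : cert.chkRange 0 378771 = true := Cert.chkRange_join (lo := 0) (a := 376010) (b := 2761) _ allC132 Cfsg.Agent.Lib.TC.D.Fi24b.C133.ok
theorem allC134 : cert.chkRange 0 381336 = true := Cert.chkRange_join (lo := 0) (a := 378771) (b := 2565) _ allC133 Cfsg.Agent.Lib.TC.D.Fi24b.C134.ok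
theorem allC135 : cert.chkRange 0 383888 = true := Cert.chkRange_join (lo := 0) (a := 381336) (b := 2552) _ allC134 Cfsg.Agent.Lib.TC.D.Fi24b.C135.ok
theorem allC136 : cert.chkRange 0 386650 = true := Cert.chkRange_join (lo := 0) (a := 383888) (b := 2762) _ allC135 Cfsg.Agent.Lib.TC.D.Fi24b.C136.ok
theorem allC137 : cert.chkRange 0 389204 = true := Cert.chkRange_join (lo := 0) (a := 386650) (b := 2554) _ allC136 Cfsg.Agent.Lib.TC.D.Fi24b.C137.ok
theorem allC138 : cert.chkRange 0 391883 = true := Cert.chkRange_join (lo := 0) (a := 389204) (b := 2679) _ allC137 Cfsg.Agent.Lib.TC.D.Fi24b.C138.ok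
theorem allC139 : cert.chkRange 0 394425 = true := Cert.chkRange_join (lo := 0) (a := 391883) (b := 2542) _ allC138 Cfsg.Agent.Lib.TC.D.Fi24b.C139.ok
theorem allF0 : cert.chkFinal 0 10000 = true := Cfsg.Agent.Lib.TC.D.Fi24b.F0.ok
theorem allF1 : cert.chkFinal 0 20000 = true := cert.chkFinal_join (lo := 0) (a := 10000) (b := 10000) allF0 Cfsg.Agent.Lib.TC.D.Fi24b.F1.ok
theorem allF2 : cert.chkFinal 0 30000 = true := cert.chkFinal_join (lo := 0) (a := 20000) (b := 10000) allF1 Cfsg.Agent.Lib.TC.D.Fi24b.F2.ok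
theorem allF3 : cert.chkFinal 0 40000 = true := cert.chkFinal_join (lo := 0) (a := 30000) (b := 10000) allF2 Cfsg.Agent.Lib.TC.D.Fi24b.F3.ok
theorem allF4 : cert.chkFinal 0 50000 = true := cert.chkFinal_join (lo := 0) (a := 40000) (b := 10000) allF3 Cfsg.Agent.Lib.TC.D.Fi24b.F4.ok
theorem allF5 : cert.chkFinal 0 60000 = true := cert.chkFinal_join (lo := 0) (a := 50000) (b := 10000) allF4 Cfsg.Agent.Lib.TC.D.Fi24b.F5.ok
theorem allF6 : cert.chkFinal 0 70000 = true := cert.chkFinal_join (lo := 0) (a := 60000) (b := 10000) allF5 Cfsg.Agent.Lib.TC.D.Fi24b.F6.ok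
theorem allF7 : cert.chkFinal 0 80000 = true := cert.chkFinal_join (lo := 0) (a := 70000) (b := 10000) allF6 Cfsg.Agent.Lib.TC.D.Fi24b.F7.ok
theorem allF8 : cert.chkFinal 0 90000 = true := cert.chkFinal_join (lo := 0) (a := 80000) (b := 10000) allF7 Cfsg.Agent.Lib.TC.D.Fi24b.F8.ok
theorem allF9 : cert.chkFinal 0 100000 = true := cert.chkFinal_join (lo := 0) (a := 90000) (b := 10000) allF8 Cfsg.Agent.Lib.TC.D.Fi24b.F9.ok
theorem allF10 : cert.chkFinal 0 110000 = true := cert.chkFinal_join (lo := 0) (a := 100000) (b := 10000) allF9 Cfsg.Agent.Lib.TC.D.Fi24b.F10.ok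
theorem allF11 : cert.chkFinal 0 120000 = true := cert.chkFinal_join (lo := 0) (a := 110000) (b := 10000) allF10 Cfsg.Agent.Lib.TC.D.Fi24b.F11.ok
theorem allF12 : cert.chkFinal 0 130000 = true := cert.chkFinal_join (lo := 0) (a := 120000) (b := 10000) allF11 Cfsg.Agent.Lib.TC.D.Fi24b.F12.ok
theorem allF13 : cert.chkFinal 0 140000 = true := cert.chkFinal_join (lo := 0) (a := 130000) (b := 10000) allF12 Cfsg.Agent.Lib.TC.D.Fi24b.F13.ok
theorem allF14 : cert.chkFinal 0 150000 = true := cert.chkFinal_join (lo := 0) (a := 140000) (b := 10000) allF13 Cfsg.Agent.Lib.TC.D.Fi24b.F14.ok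
theorem allF15 : cert.chkFinal 0 160000 = true := cert.chkFinal_join (lo := 0) (a := 150000) (b := 10000) allF14 Cfsg.Agent.Lib.TC.D.Fi24b.F15.ok
theorem allF16 : cert.chkFinal 0 170000 = true := cert.chkFinal_join (lo := 0) (a := 160000) (b := 10000) allF15 Cfsg.Agent.Lib.TC.D.Fi24b.F16.ok
theorem allF17 : cert.chkFinal 0 180000 = true := cert.chkFinal_join (lo := 0) (a := 170000) (b := 10000) allF16 Cfsg.Agent.Lib.TC.D.Fi24b.F17.ok
theorem allF18 : cert.chkFinal 0 190000 = true := cert.chkFinal_join (lo := 0) (a := 180000) (b := 10000) allF17 Cfsg.Agent.Lib.TC.D.Fi24b.F18.ok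
theorem allF19 : cert.chkFinal 0 200000 = true := cert.chkFinal_join (lo := 0) (a := 190000) (b := 10000) allF18 Cfsg.Agent.Lib.TC.D.Fi24b.F19.ok
theorem allF20 : cert.chkFinal 0 210000 = true := cert.chkFinal_join (lo := 0) (a := 200000) (b := 10000) allF19 Cfsg.Agent.Lib.TC.D.Fi24b.F20.ok
theorem allF21 : cert.chkFinal 0 220000 = true := cert.chkFinal_join (lo := 0) (a := 210000) (b := 10000) allF20 Cfsg.Agent.Lib.TC.D.Fi24b.F21.ok
theorem allF22 : cert.chkFinal 0 230000 = true := cert.chkFinal_join (lo := 0) (a := 220000) (b := 10000) allF21 Cfsg.Agent.Lib.TC.D.Fi24b.F22.ok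
theorem allF23 : cert.chkFinal 0 240000 = true := cert.chkFinal_join (lo := 0) (a := 230000) (b := 10000) allF22 Cfsg.Agent.Lib.TC.D.Fi24b.F23.ok
theorem allF24 : cert.chkFinal 0 250000 = true := cert.chkFinal_join (lo := 0) (a := 240000) (b := 10000) allF23 Cfsg.Agent.Lib.TC.D.Fi24b.F24.ok
theorem allF25 : cert.chkFinal 0 260000 = true := cert.chkFinal_join (lo := 0) (a := 250000) (b := 10000) allF24 Cfsg.Agent.Lib.TC.D.Fi24b.F25.ok
theorem allF26 : cert.chkFinal 0 270000 = true := cert.chkFinal_join (lo := 0) (a := 260000) (b := 10000) allF25 Cfsg.Agent.Lib.TC.D.Fi24b.F26.ok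
theorem allF27 : cert.chkFinal 0 280000 = true := cert.chkFinal_join (lo := 0) (a := 270000) (b := 10000) allF26 Cfsg.Agent.Lib.TC.D.Fi24b.F27.ok
theorem allF28 : cert.chkFinal 0 290000 = true := cert.chkFinal_join (lo := 0) (a := 280000) (b := 10000) allF27 Cfsg.Agent.Lib.TC.D.Fi24b.F28.ok
theorem allF29 : cert.chkFinal 0 300000 = true := cert.chkFinal_join (lo := 0) (a := 290000) (b := 10000) allF28 Cfsg.Agent.Lib.TC.D.Fi24b.F29.ok
theorem allF30 : cert.chkFinal 0 310000 = true := cert.chkFinal_join (lo := 0) (a := 300000) (b := 10000) allF29 Cfsg.Agent.Lib.TC.D.Fi24b.F30.ok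
theorem allF31 : cert.chkFinal 0 320000 = true := cert.chkFinal_join (lo := 0) (a := 310000) (b := 10000) allF30 Cfsg.Agent.Lib.TC.D.Fi24b.F31.ok
theorem allF32 : cert.chkFinal 0 330000 = true := cert.chkFinal_join (lo := 0) (a := 320000) (b := 10000) allF31 Cfsg.Agent.Lib.TC.D.Fi24b.F32.ok
theorem allF33 : cert.chkFinal 0 340000 = true := cert.chkFinal_join (lo := 0) (a := 330000) (b := 10000) allF32 Cfsg.Agent.Lib.TC.D.Fi24b.F33.ok
theorem allF34 : cert.chkFinal 0 350000 = true := cert.chkFinal_join (lo := 0) (a := 340000) (b := 10000) allF33 Cfsg.Agent.Lib.TC.D.Fi24b.F34.ok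
theorem allF35 : cert.chkFinal 0 360000 = true := cert.chkFinal_join (lo := 0) (a := 350000) (b := 10000) allF34 Cfsg.Agent.Lib.TC.D.Fi24b.F35.ok
theorem allF36 : cert.chkFinal 0 370000 = true := cert.chkFinal_join (lo := 0) (a := 360000) (b := 10000) allF35 Cfsg.Agent.Lib.TC.D.Fi24b.F36.ok
theorem allF37 : cert.chkFinal 0 380000 = true := cert.chkFinal_join (lo := 0) (a := 370000) (b := 10000) allF36 Cfsg.Agent.Lib.TC.D.Fi24b.F37.ok
theorem allF38 : cert.chkFinal 0 390000 = true := cert.chkFinal_join (lo := 0) (a := 380000) (b := 10000) allF37 Cfsg.Agent.Lib.TC.D.Fi24b.F38.ok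
theorem allF39 : cert.chkFinal 0 394425 = true := cert.chkFinal_join (lo := 0) (a := 390000) (b := 4425) allF38 Cfsg.Agent.Lib.TC.D.Fi24b.F39.ok

theorem h0 : cert.eLvl (cert.par (cert.find cert.MAX cert.D 0)) = cert.MAX := by decide +kernel

theorem hchecked : Checked cert where
  hN := by decide
  hC := allC139
  hF := allF39
  h0 := h0

theorem h1 : chkRelRots cert inv rels witT.get = true := by decide +kernel

theorem h2 : chkSubRots cert subs = true := by decide +kernel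

end Cfsg.Agent.Lib.TC.D.Fi24b.Ok
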