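import Cfsg.Agent.Lib.TC.Pres
import Cfsg.Agent.Lib.TC.Enc
import Cfsg.Agent.Lib.TC.D.Fi24b.CT0
import Cfsg.Agent.Lib.TC.D.Fi24b.CT1
import Cfsg.Agent.Lib.TC.D.Fi24b.CT2
import Cfsg.Agent.Lib.TC.D.Fi24b.CT3
import Cfsg.Agent.Lib.TC.D.Fi24b.CT4
import Cfsg.Agent.Lib.TC.D.Fi24b.CT5
import Cfsg.Agent.Lib.TC.D.Fi24b.CT6
import Cfsg.Agent.Lib.TC.D.Fi24b.CT7
import Cfsg.Agent.Lib.TC.D.Fi24b.CT8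
import Cfsg.Agent.Lib.TC.D.Fi24b.CT9
import Cfsg.Agent.Lib.TC.D.Fi24b.CT10
import Cfsg.Agent.Lib.TC.D.Fi24b.CT11
import Cfsg.Agent.Lib.TC.D.Fi24b.CT12
import Cfsg.Agent.Lib.TC.D.Fi24b.CT13
import Cfsg.Agent.Lib.TC.D.Fi24b.CT14
import Cfsg.Agent.Lib.TC.D.Fi24b.CT15

namespace Cfsg.Agent.Lib.TC.D.Fi24b.Tab

open Cfsg.Agent.Lib.TC.Core Cfsg.Agent.Lib.TC.Enc Cfsg.Agent.Lib.TC.Pres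

set_option maxRecDepth 100000

/-- The chunks of the certificate. -/
noncomputable def ctree : Tr Nat := (Tr.node (Tr.node (Tr.node (Tr.node Cfsg.Agent.Lib.TC.D.Fi24b.CT0.tree Cfsg.Agent.Lib.TC.D.Fi24b.CT8.tree) (Tr.node Cfsg.Agent.Lib.TC.D.Fi24b.CT4.tree Cfsg.Agent.Lib.TC.D.Fi24b.CT12.tree)) (Tr.node (Tr.node Cfsg.Agent.Lib.TC.D.Fi24b.CT2.tree Cfsg.Agent.Lib.TC.D.Fi24b.CT10.tree) (Tr.node Cfsg.Agent.Lib.TC.D.Fi24b.CT6.tree Cfsg.Agent.Lib.TC.D.Fi24b.CT14.tree))) (Tr.node (Tr.node (Tr.node Cfsg.Agent.Lib.TC.D.Fi24b.CT1.tree Cfsg.Agent.Lib.TC.D.Fi24b.CT9.tree) (Tr.node Cfsg.Agent.Lib.TC.D.Fi24b.CT5.tree Cfsg.Agent.Lib.TC.D.Fi24b.CT13.tree)) (Tr.node (Tr.node Cfsg.Agent.Lib.TC.D.Fi24b.CT3.tree Cfsg.Agent.Lib.TC.D.Fi24b.CT11.tree)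 (Tr.node Cfsg.Agent.Lib.TC.D.Fi24b.CT7.tree Cfsg.Agent.Lib.TC.D.Fi24b.CT15.tree))))

/-- The relator rotations. -/
noncomputable def rotT : Tr (List Nat) := (Tr.node (Tr.node (Tr.node (Tr.node (Tr.node (Tr.node (Tr.node (Tr.node (Tr.leaf [])
 (Tr.leaf [4,9,4,9]))
 (Tr.node (Tr.leaf [9,5,9,5])
 (Tr.leaf [11,10,5,4,3,6,5,4,7,6,8,7,10,5,6,11,10,5,4,3,2,1,2,3,4,5,10,11,6,5,10,7,8,6,7,4,5,6,3,4,5,10,11,7,5,6,3,4,5,10,9,8,7,6,5,4,3,2,3,4,5,6,7,8,9,10,5,4,3,6,5,7,11,10,5,4,3,6,5,4,7,6,8,7,10,5,6,11,10,5,4,3,2,1,2,3,4,5,10,11,6,5,10,7,8,6,7,4,5,6,3,4,5,10,11,7,5,6,3,4,5,10,9,8,7,6,5,4,3,2,3,4,5,6,7,8,9,10,5,4,3,6,5,7])))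
 (Tr.node (Tr.node (Tr.leaf [0,2,0,2])
 (Tr.leaf [6,5,4,3,2,10,7,6,5,4,3,2,10,7,6,5,4,3,2,10,7,6,5,4,3,2,10,7,6,5,4,3,2,10,7,6,5,4,3,2,10,7,6,5,4,3,2,10,7,6,5,4,3,2,10,7,6,5,4,3,2,0,10,7]))
 (Tr.node (Tr.leaf [11,7,11,7])
 (Tr.leaf [11,6,5,10,7,8,6,7,4,5,6,3,4,5,10,11,7,5,6,3,4,5,10,9,8,7,6,5,4,3,2,3,4,5,6,7,8,9,10,5,4,3,6,5,7,11,10,5,4,3,6,5,4,7,6,8,7,10,5,6,11,10,5,4,3,2,1,2,3,4,5,10,11,6,5,10,7,8,6,7,4,5,6,3,4,5,10,11,7,5,6,3,4,5,10,9,8,7,6,5,4,3,2,3,4,5,6,7,8,9,10,5,4,3,6,5,7,11,10,5,4,3,6,5,4,7,6,8,7,10,5,6,11,10,5,4,3,2,1,2,3,4,5,10]))))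
 (Tr.node (Tr.node (Tr.node (Tr.leaf [6,0,6,0])
 (Tr.leaf [4,5,6,7,10,2,3,4,5,6,7,10,2,3,4,5,6,7,10,2,3,4,5,6,7,10,2,3,4,5,6,7,10,2,3,4,5,6,7,10,2,3,4,5,6,7,10,2,3,4,5,6,7,10,2,3,4,5,6,7,10,0,2,3]))
 (Tr.node (Tr.leaf [3,10,3,10])
 (Tr.leaf [2,3,4,5,6,7,10,2,3,4,5,6,7,10,2,3,4,5,6,7,10,2,3,4,5,6,7,10,2,3,4,5,6,7,10,0,2,3,4,5,6,7,10,2,3,4,5,6,7,10,2,3,4,5,6,7,10,2,3,4,5,6,7,10])))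
 (Tr.node (Tr.node (Tr.leaf [2,4,2,4])
 (Tr.leaf [6,7,10,2,3,4,5,6,7,10,0,2,3,4,5,6,7,10,2,3,4,5,6,7,10,2,3,4,5,6,7,10,2,3,4,5,6,7,10,2,3,4,5,6,7,10,2,3,4,5,6,7,10,2,3,4,5,6,7,10,2,3,4,5]))
 (Tr.node (Tr.leaf [1,8,1,8])
 (Tr.leaf [6,5,4,3,2,3,4,5,6,7,8,9,10,5,4,3,6,5,7,11,10,5,4,3,6,5,4,7,6,8,7,10,5,6,11,10,5,4,3,2,1,2,3,4,5,10,11,6,5,10,7,8,6,7,4,5,6,3,4,5,10,11,7,5,6,3,4,5,10,9,8,7,6,5,4,3,2,3,4,5,6,7,8,9,10,5,4,3,6,5,7,11,10,5,4,3,6,5,4,7,6,8,7,10,5,6,11,10,5,4,3,2,1,2,3,4,5,10,11,6,5,10,7,8,6,7,4,5,6,3,4,5,10,11,7,5,6,3,4,5,10,9,8,7])))))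
 (Tr.node (Tr.node (Tr.node (Tr.node (Tr.leaf [9,1,9,1])
 (Tr.leaf [7,6,7,6,7,6]))
 (Tr.node (Tr.leaf [4,6,4,6])
 (Tr.leaf [6,7,10,2,3,4,5,6,7,10,2,3,4,5,6,7,10,2,3,4,5,6,7,10,2,3,4,5,6,7,10,2,3,4,5,6,7,10,0,2,3,4,5,6,7,10,2,3,4,5,6,7,10,2,3,4,5,6,7,10,2,3,4,5])))
 (Tr.node (Tr.node (Tr.leaf [9,3,9,3])
 (Tr.leaf [2,10,7,6,5,4,3,2,10,7,6,5,4,3,2,10,7,6,5,4,3,2,10,7,6,5,4,3,2,0,10,7,6,5,4,3,2,10,7,6,5,4,3,2,10,7,6,5,4,3,2,10,7,6,5,4,3,2,10,7,6,5,4,3]))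
 (Tr.node (Tr.leaf [7,11,7,11])
 (Tr.leaf [4,5,6,3,4,5,10,11,7,5,6,3,4,5,10,9,8,7,6,5,4,3,2,3,4,5,6,7,8,9,10,5,4,3,6,5,7,11,10,5,4,3,6,5,4,7,6,8,7,10,5,6,11,10,5,4,3,2,1,2,3,4,5,10,11,6,5,10,7,8,6,7,4,5,6,3,4,5,10,11,7,5,6,3,4,5,10,9,8,7,6,5,4,3,2,3,4,5,6,7,8,9,10,5,4,3,6,5,7,11,10,5,4,3,6,5,4,7,6,8,7,10,5,6,11,10,5,4,3,2,1,2,3,4,5,10,11,6,5,10,7,8,6,7]))))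
 (Tr.node (Tr.node (Tr.node (Tr.leaf [4,2,4,2])
 (Tr.leaf [7,10,2,3,4,5,6,7,10,2,3,4,5,6,7,10,2,3,4,5,6,7,10,2,3,4,5,6,7,10,2,3,4,5,6,7,10,2,3,4,5,6,7,10,2,3,4,5,6,7,10,2,3,4,5,6,7,10,0,2,3,4,5,6]))
 (Tr.node (Tr.leaf [7,7])
 (Tr.leaf [6,7,8,9,10,5,4,3,6,5,7,11,10,5,4,3,6,5,4,7,6,8,7,10,5,6,11,10,5,4,3,2,1,2,3,4,5,10,11,6,5,10,7,8,6,7,4,5,6,3,4,5,10,11,7,5,6,3,4,5,10,9,8,7,6,5,4,3,2,3,4,5,6,7,8,9,10,5,4,3,6,5,7,11,10,5,4,3,6,5,4,7,6,8,7,10,5,6,11,10,5,4,3,2,1,2,3,4,5,10,11,6,5,10,7,8,6,7,4,5,6,3,4,5,10,11,7,5,6,3,4,5,10,9,8,7,6,5,4,3,2,3,4,5])))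
 (Tr.node (Tr.node (Tr.leaf [0,4,0,4])
 (Tr.leaf [10,7,6,5,4,3,2,10,7,6,5,4,3,2,10,7,6,5,4,3,2,10,7,6,5,4,3,2,10,7,6,5,4,3,2,10,7,6,5,4,3,2,10,7,6,5,4,3,2,10,7,6,5,4,3,2,0,10,7,6,5,4,3,2]))
 (Tr.node (Tr.leaf [6,5,6,5,6,5])
 (Tr.leaf []))))))
 (Tr.node (Tr.node (Tr.node (Tr.node (Tr.node (Tr.leaf [5,1,5,1])
 (Tr.leaf [8,9,8,9,8,9]))
 (Tr.node (Tr.leaf [6,6])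
 (Tr.leaf [3,4,5,10,9,8,7,6,5,4,3,2,3,4,5,6,7,8,9,10,5,4,3,6,5,7,11,10,5,4,3,6,5,4,7,6,8,7,10,5,6,11,10,5,4,3,2,1,2,3,4,5,10,11,6,5,10,7,8,6,7,4,5,6,3,4,5,10,11,7,5,6,3,4,5,10,9,8,7,6,5,4,3,2,3,4,5,6,7,8,9,10,5,4,3,6,5,7,11,10,5,4,3,6,5,4,7,6,8,7,10,5,6,11,10,5,4,3,2,1,2,3,4,5,10,11,6,5,10,7,8,6,7,4,5,6,3,4,5,10,11,7,5,6])))
 (Tr.node (Tr.node (Tr.leaf [5,3,5,3])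
 (Tr.leaf [6,5,4,3,2,10,7,6,5,4,3,2,10,7,6,5,4,3,2,10,7,6,5,4,3,2,10,7,6,5,4,3,2,10,7,6,5,4,3,2,10,7,6,5,4,3,2,10,7,6,5,4,3,2,0,10,7,6,5,4,3,2,10,7]))
 (Tr.node (Tr.leaf [2,11,2,11])
 (Tr.leaf [6,7,4,5,6,3,4,5,10,11,7,5,6,3,4,5,10,9,8,7,6,5,4,3,2,3,4,5,6,7,8,9,10,5,4,3,6,5,7,11,10,5,4,3,6,5,4,7,6,8,7,10,5,6,11,10,5,4,3,2,1,2,3,4,5,10,11,6,5,10,7,8,6,7,4,5,6,3,4,5,10,11,7,5,6,3,4,5,10,9,8,7,6,5,4,3,2,3,4,5,6,7,8,9,10,5,4,3,6,5,7,11,10,5,4,3,6,5,4,7,6,8,7,10,5,6,11,10,5,4,3,2,1,2,3,4,5,10,11,6,5,10,7,8]))))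
 (Tr.node (Tr.node (Tr.node (Tr.leaf [10,0,10,0])
 (Tr.leaf [10,7,6,5,4,3,2,10,7,6,5,4,3,2,10,7,6,5,4,3,2,0,10,7,6,5,4,3,2,10,7,6,5,4,3,2,10,7,6,5,4,3,2,10,7,6,5,4,3,2,10,7,6,5,4,3,2,10,7,6,5,4,3,2]))
 (Tr.node (Tr.leaf [8,10,8,10])
 (Tr.leaf [5,6,7,8,9,10,5,4,3,6,5,7,11,10,5,4,3,6,5,4,7,6,8,7,10,5,6,11,10,5,4,3,2,1,2,3,4,5,10,11,6,5,10,7,8,6,7,4,5,6,3,4,5,10,11,7,5,6,3,4,5,10,9,8,7,6,5,4,3,2,3,4,5,6,7,8,9,10,5,4,3,6,5,7,11,10,5,4,3,6,5,4,7,6,8,7,10,5,6,11,10,5,4,3,2,1,2,3,4,5,10,11,6,5,10,7,8,6,7,4,5,6,3,4,5,10,11,7,5,6,3,4,5,10,9,8,7,6,5,4,3,2,3,4])))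
 (Tr.node (Tr.node (Tr.leaf [8,4,8,4])
 (Tr.leaf [6,7,10,2,3,4,5,6,7,10,2,3,4,5,6,7,10,2,3,4,5,6,7,10,2,3,4,5,6,7,10,2,3,4,5,6,7,10,2,3,4,5,6,7,10,0,2,3,4,5,6,7,10,2,3,4,5,6,7,10,2,3,4,5]))
 (Tr.node (Tr.leaf [5,8,5,8])
 (Tr.leaf [])))))
 (Tr.node (Tr.node (Tr.node (Tr.node (Tr.leaf [1,0,1,0,1,0])
 (Tr.leaf [10,7,10,7]))
 (Tr.node (Tr.leaf [11,6,11,6])
 (Tr.leaf [6,5,4,3,2,10,7,6,5,4,3,2,10,7,6,5,4,3,2,10,7,6,5,4,3,2,10,7,6,5,4,3,2,10,7,6,5,4,3,2,10,7,6,5,4,3,2,0,10,7,6,5,4,3,2,10,7,6,5,4,3,2,10,7])))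
 (Tr.node (Tr.node (Tr.leaf [2,1,2,1,2,1])
 (Tr.leaf [2,10,7,6,5,4,3,2,10,7,6,5,4,3,2,10,7,6,5,4,3,2,10,7,6,5,4,3,2,10,7,6,5,4,3,2,10,7,6,5,4,3,2,10,7,6,5,4,3,2,10,7,6,5,4,3,2,0,10,7,6,5,4,3]))
 (Tr.node (Tr.leaf [4,3,4,3,4,3])
 (Tr.leaf [6,3,4,5,10,9,8,7,6,5,4,3,2,3,4,5,6,7,8,9,10,5,4,3,6,5,7,11,10,5,4,3,6,5,4,7,6,8,7,10,5,6,11,10,5,4,3,2,1,2,3,4,5,10,11,6,5,10,7,8,6,7,4,5,6,3,4,5,10,11,7,5,6,3,4,5,10,9,8,7,6,5,4,3,2,3,4,5,6,7,8,9,10,5,4,3,6,5,7,11,10,5,4,3,6,5,4,7,6,8,7,10,5,6,11,10,5,4,3,2,1,2,3,4,5,10,11,6,5,10,7,8,6,7,4,5,6,3,4,5,10,11,7,5]))))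
 (Tr.node (Tr.node (Tr.node (Tr.leaf [8,2,8,2])
 (Tr.leaf [10,7,6,5,4,3,2,10,7,6,5,4,3,2,10,7,6,5,4,3,2,10,7,6,5,4,3,2,10,7,6,5,4,3,2,10,7,6,5,4,3,2,10,7,6,5,4,3,2,10,7,6,5,4,3,2,10,7,6,5,4,3,2,0]))
 (Tr.node (Tr.leaf [4,7,4,7])
 (Tr.leaf [10,5,4,3,2,1,2,3,4,5,10,11,6,5,10,7,8,6,7,4,5,6,3,4,5,10,11,7,5,6,3,4,5,10,9,8,7,6,5,4,3,2,3,4,5,6,7,8,9,10,5,4,3,6,5,7,11,10,5,4,3,6,5,4,7,6,8,7,10,5,6,11,10,5,4,3,2,1,2,3,4,5,10,11,6,5,10,7,8,6,7,4,5,6,3,4,5,10,11,7,5,6,3,4,5,10,9,8,7,6,5,4,3,2,3,4,5,6,7,8,9,10,5,4,3,6,5,7,11,10,5,4,3,6,5,4,7,6,8,7,10,5,6,11])))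
 (Tr.node (Tr.node (Tr.leaf [3,5,3,5])
 (Tr.leaf [2,3,4,5,6,7,10,2,3,4,5,6,7,10,0,2,3,4,5,6,7,10,2,3,4,5,6,7,10,2,3,4,5,6,7,10,2,3,4,5,6,7,10,2,3,4,5,6,7,10,2,3,4,5,6,7,10,2,3,4,5,6,7,10]))
 (Tr.node (Tr.leaf [9,9])
 (Tr.leaf [])))))))
 (Tr.node (Tr.node (Tr.node (Tr.node (Tr.node (Tr.node (Tr.leaf [3,1,3,1])
 (Tr.leaf [6,9,6,9]))
 (Tr.node (Tr.leaf [3,2,3,2,3,2])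
 (Tr.leaf [7,6,5,4,3,2,0,10,7,6,5,4,3,2,10,7,6,5,4,3,2,10,7,6,5,4,3,2,10,7,6,5,4,3,2,10,7,6,5,4,3,2,10,7,6,5,4,3,2,10,7,6,5,4,3,2,10,7,6,5,4,3,2,10])))
 (Tr.node (Tr.node (Tr.leaf [1,3,1,3])
 (Tr.leaf [5,6,7,10,2,3,4,5,6,7,10,0,2,3,4,5,6,7,10,2,3,4,5,6,7,10,2,3,4,5,6,7,10,2,3,4,5,6,7,10,2,3,4,5,6,7,10,2,3,4,5,6,7,10,2,3,4,5,6,7,10,2,3,4]))
 (Tr.node (Tr.leaf [11,11])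
 (Tr.leaf [7,4,5,6,3,4,5,10,11,7,5,6,3,4,5,10,9,8,7,6,5,4,3,2,3,4,5,6,7,8,9,10,5,4,3,6,5,7,11,10,5,4,3,6,5,4,7,6,8,7,10,5,6,11,10,5,4,3,2,1,2,3,4,5,10,11,6,5,10,7,8,6,7,4,5,6,3,4,5,10,11,7,5,6,3,4,5,10,9,8,7,6,5,4,3,2,3,4,5,6,7,8,9,10,5,4,3,6,5,7,11,10,5,4,3,6,5,4,7,6,8,7,10,5,6,11,10,5,4,3,2,1,2,3,4,5,10,11,6,5,10,7,8,6]))))
 (Tr.node (Tr.node (Tr.node (Tr.leaf [8,0,8,0])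
 (Tr.leaf [3,4,5,6,7,10,2,3,4,5,6,7,10,2,3,4,5,6,7,10,2,3,4,5,6,7,10,2,3,4,5,6,7,10,2,3,4,5,6,7,10,2,3,4,5,6,7,10,2,3,4,5,6,7,10,2,3,4,5,6,7,10,0,2]))
 (Tr.node (Tr.leaf [5,10,5,10,5,10])
 (Tr.leaf [3,4,5,10,11,6,5,10,7,8,6,7,4,5,6,3,4,5,10,11,7,5,6,3,4,5,10,9,8,7,6,5,4,3,2,3,4,5,6,7,8,9,10,5,4,3,6,5,7,11,10,5,4,3,6,5,4,7,6,8,7,10,5,6,11,10,5,4,3,2,1,2,3,4,5,10,11,6,5,10,7,8,6,7,4,5,6,3,4,5,10,11,7,5,6,3,4,5,10,9,8,7,6,5,4,3,2,3,4,5,6,7,8,9,10,5,4,3,6,5,7,11,10,5,4,3,6,5,4,7,6,8,7,10,5,6,11,10,5,4,3,2,1,2])))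
 (Tr.node (Tr.node (Tr.leaf [6,4,6,4])
 (Tr.leaf [2,3,4,5,6,7,10,2,3,4,5,6,7,10,2,3,4,5,6,7,10,2,3,4,5,6,7,10,2,3,4,5,6,7,10,2,3,4,5,6,7,10,2,3,4,5,6,7,10,2,3,4,5,6,7,10,2,3,4,5,6,7,10,0]))
 (Tr.node (Tr.leaf [3,8,3,8])
 (Tr.leaf [10,9,8,7,6,5,4,3,2,3,4,5,6,7,8,9,10,5,4,3,6,5,7,11,10,5,4,3,6,5,4,7,6,8,7,10,5,6,11,10,5,4,3,2,1,2,3,4,5,10,11,6,5,10,7,8,6,7,4,5,6,3,4,5,10,11,7,5,6,3,4,5,10,9,8,7,6,5,4,3,2,3,4,5,6,7,8,9,10,5,4,3,6,5,7,11,10,5,4,3,6,5,4,7,6,8,7,10,5,6,11,10,5,4,3,2,1,2,3,4,5,10,11,6,5,10,7,8,6,7,4,5,6,3,4,5,10,11,7,5,6,3,4,5])))))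
 (Tr.node (Tr.node (Tr.node (Tr.node (Tr.leaf [11,1,11,1])
 (Tr.leaf [11,10,11,10,11,10]))
 (Tr.node (Tr.leaf [8,6,8,6])
 (Tr.leaf [4,5,6,7,8,9,10,5,4,3,6,5,7,11,10,5,4,3,6,5,4,7,6,8,7,10,5,6,11,10,5,4,3,2,1,2,3,4,5,10,11,6,5,10,7,8,6,7,4,5,6,3,4,5,10,11,7,5,6,3,4,5,10,9,8,7,6,5,4,3,2,3,4,5,6,7,8,9,10,5,4,3,6,5,7,11,10,5,4,3,6,5,4,7,6,8,7,10,5,6,11,10,5,4,3,2,1,2,3,4,5,10,11,6,5,10,7,8,6,7,4,5,6,3,4,5,10,11,7,5,6,3,4,5,10,9,8,7,6,5,4,3,2,3])))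
 (Tr.node (Tr.node (Tr.leaf [11,3,11,3])
 (Tr.leaf [2,3,4,5,6,7,10,0,2,3,4,5,6,7,10,2,3,4,5,6,7,10,2,3,4,5,6,7,10,2,3,4,5,6,7,10,2,3,4,5,6,7,10,2,3,4,5,6,7,10,2,3,4,5,6,7,10,2,3,4,5,6,7,10]))
 (Tr.node (Tr.leaf [9,11,9,11])
 (Tr.leaf [7,5,6,3,4,5,10,9,8,7,6,5,4,3,2,3,4,5,6,7,8,9,10,5,4,3,6,5,7,11,10,5,4,3,6,5,4,7,6,8,7,10,5,6,11,10,5,4,3,2,1,2,3,4,5,10,11,6,5,10,7,8,6,7,4,5,6,3,4,5,10,11,7,5,6,3,4,5,10,9,8,7,6,5,4,3,2,3,4,5,6,7,8,9,10,5,4,3,6,5,7,11,10,5,4,3,6,5,4,7,6,8,7,10,5,6,11,10,5,4,3,2,1,2,3,4,5,10,11,6,5,10,7,8,6,7,4,5,6,3,4,5,10,11]))))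
 (Tr.node (Tr.node (Tr.node (Tr.leaf [6,2,6,2])
 (Tr.leaf [7,6,5,4,3,2,10,7,6,5,4,3,2,10,7,6,5,4,3,2,10,7,6,5,4,3,2,10,7,6,5,4,3,2,10,7,6,5,4,3,2,10,7,6,5,4,3,2,10,7,6,5,4,3,2,10,7,6,5,4,3,2,0,10]))
 (Tr.node (Tr.leaf [2,7,2,7])
 (Tr.leaf [6,11,10,5,4,3,2,1,2,3,4,5,10,11,6,5,10,7,8,6,7,4,5,6,3,4,5,10,11,7,5,6,3,4,5,10,9,8,7,6,5,4,3,2,3,4,5,6,7,8,9,10,5,4,3,6,5,7,11,10,5,4,3,6,5,4,7,6,8,7,10,5,6,11,10,5,4,3,2,1,2,3,4,5,10,11,6,5,10,7,8,6,7,4,5,6,3,4,5,10,11,7,5,6,3,4,5,10,9,8,7,6,5,4,3,2,3,4,5,6,7,8,9,10,5,4,3,6,5,7,11,10,5,4,3,6,5,4,7,6,8,7,10,5])))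
 (Tr.node (Tr.node (Tr.leaf [1,5,1,5])
 (Tr.leaf [6,5,4,3,2,10,7,6,5,4,3,2,0,10,7,6,5,4,3,2,10,7,6,5,4,3,2,10,7,6,5,4,3,2,10,7,6,5,4,3,2,10,7,6,5,4,3,2,10,7,6,5,4,3,2,10,7,6,5,4,3,2,10,7]))
 (Tr.node (Tr.leaf [6,11,6,11])
 (Tr.leaf []))))))
 (Tr.node (Tr.node (Tr.node (Tr.node (Tr.node (Tr.leaf [7,1,7,1])
 (Tr.leaf [5,4,5,4,5,4]))
 (Tr.node (Tr.leaf [2,6,2,6])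
 (Tr.leaf [10,5,4,3,6,5,4,7,6,8,7,10,5,6,11,10,5,4,3,2,1,2,3,4,5,10,11,6,5,10,7,8,6,7,4,5,6,3,4,5,10,11,7,5,6,3,4,5,10,9,8,7,6,5,4,3,2,3,4,5,6,7,8,9,10,5,4,3,6,5,7,11,10,5,4,3,6,5,4,7,6,8,7,10,5,6,11,10,5,4,3,2,1,2,3,4,5,10,11,6,5,10,7,8,6,7,4,5,6,3,4,5,10,11,7,5,6,3,4,5,10,9,8,7,6,5,4,3,2,3,4,5,6,7,8,9,10,5,4,3,6,5,7,11])))
 (Tr.node (Tr.node (Tr.leaf [7,3,7,3])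
 (Tr.leaf [4,3,2,10,7,6,5,4,3,2,10,7,6,5,4,3,2,10,7,6,5,4,3,2,10,7,6,5,4,3,2,10,7,6,5,4,3,2,10,7,6,5,4,3,2,10,7,6,5,4,3,2,0,10,7,6,5,4,3,2,10,7,6,5]))
 (Tr.node (Tr.leaf [4,11,4,11])
 (Tr.leaf [10,7,8,6,7,4,5,6,3,4,5,10,11,7,5,6,3,4,5,10,9,8,7,6,5,4,3,2,3,4,5,6,7,8,9,10,5,4,3,6,5,7,11,10,5,4,3,6,5,4,7,6,8,7,10,5,6,11,10,5,4,3,2,1,2,3,4,5,10,11,6,5,10,7,8,6,7,4,5,6,3,4,5,10,11,7,5,6,3,4,5,10,9,8,7,6,5,4,3,2,3,4,5,6,7,8,9,10,5,4,3,6,5,7,11,10,5,4,3,6,5,4,7,6,8,7,10,5,6,11,10,5,4,3,2,1,2,3,4,5,10,11,6,5]))))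
 (Tr.node (Tr.node (Tr.node (Tr.leaf [2,2])
 (Tr.leaf [10,0,2,3,4,5,6,7,10,2,3,4,5,6,7,10,2,3,4,5,6,7,10,2,3,4,5,6,7,10,2,3,4,5,6,7,10,2,3,4,5,6,7,10,2,3,4,5,6,7,10,2,3,4,5,6,7,10,2,3,4,5,6,7]))
 (Tr.node (Tr.leaf [0,6,0,6])
 (Tr.leaf [8,7,6,5,4,3,2,3,4,5,6,7,8,9,10,5,4,3,6,5,7,11,10,5,4,3,6,5,4,7,6,8,7,10,5,6,11,10,5,4,3,2,1,2,3,4,5,10,11,6,5,10,7,8,6,7,4,5,6,3,4,5,10,11,7,5,6,3,4,5,10,9,8,7,6,5,4,3,2,3,4,5,6,7,8,9,10,5,4,3,6,5,7,11,10,5,4,3,6,5,4,7,6,8,7,10,5,6,11,10,5,4,3,2,1,2,3,4,5,10,11,6,5,10,7,8,6,7,4,5,6,3,4,5,10,11,7,5,6,3,4,5,10,9])))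
 (Tr.node (Tr.node (Tr.leaf [10,4,10,4])
 (Tr.leaf [5,6,7,10,0,2,3,4,5,6,7,10,2,3,4,5,6,7,10,2,3,4,5,6,7,10,2,3,4,5,6,7,10,2,3,4,5,6,7,10,2,3,4,5,6,7,10,2,3,4,5,6,7,10,2,3,4,5,6,7,10,2,3,4]))
 (Tr.node (Tr.leaf [7,8,7,8,7,8])
 (Tr.leaf [])))))
 (Tr.node (Tr.node (Tr.node (Tr.node (Tr.leaf [4,0,4,0])
 (Tr.leaf [9,8,9,8,9,8]))
 (Tr.node (Tr.leaf [1,10,1,10])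
 (Tr.leaf [10,11,7,5,6,3,4,5,10,9,8,7,6,5,4,3,2,3,4,5,6,7,8,9,10,5,4,3,6,5,7,11,10,5,4,3,6,5,4,7,6,8,7,10,5,6,11,10,5,4,3,2,1,2,3,4,5,10,11,6,5,10,7,8,6,7,4,5,6,3,4,5,10,11,7,5,6,3,4,5,10,9,8,7,6,5,4,3,2,3,4,5,6,7,8,9,10,5,4,3,6,5,7,11,10,5,4,3,6,5,4,7,6,8,7,10,5,6,11,10,5,4,3,2,1,2,3,4,5,10,11,6,5,10,7,8,6,7,4,5,6,3,4,5])))
 (Tr.node (Tr.node (Tr.leaf [4,4])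
 (Tr.leaf [6,5,4,3,2,10,7,6,5,4,3,2,10,7,6,5,4,3,2,10,7,6,5,4,3,2,10,7,6,5,4,3,2,10,7,6,5,4,3,2,0,10,7,6,5,4,3,2,10,7,6,5,4,3,2,10,7,6,5,4,3,2,10,7]))
 (Tr.node (Tr.leaf [0,11,0,11])
 (Tr.leaf [6,3,4,5,10,11,7,5,6,3,4,5,10,9,8,7,6,5,4,3,2,3,4,5,6,7,8,9,10,5,4,3,6,5,7,11,10,5,4,3,6,5,4,7,6,8,7,10,5,6,11,10,5,4,3,2,1,2,3,4,5,10,11,6,5,10,7,8,6,7,4,5,6,3,4,5,10,11,7,5,6,3,4,5,10,9,8,7,6,5,4,3,2,3,4,5,6,7,8,9,10,5,4,3,6,5,7,11,10,5,4,3,6,5,4,7,6,8,7,10,5,6,11,10,5,4,3,2,1,2,3,4,5,10,11,6,5,10,7,8,6,7,4,5]))))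
 (Tr.node (Tr.node (Tr.node (Tr.leaf [10,2,10,2])
 (Tr.leaf [10,7,6,5,4,3,2,10,7,6,5,4,3,2,0,10,7,6,5,4,3,2,10,7,6,5,4,3,2,10,7,6,5,4,3,2,10,7,6,5,4,3,2,10,7,6,5,4,3,2,10,7,6,5,4,3,2,10,7,6,5,4,3,2]))
 (Tr.node (Tr.leaf [6,7,6,7,6,7])
 (Tr.leaf [4,5,10,11,7,5,6,3,4,5,10,9,8,7,6,5,4,3,2,3,4,5,6,7,8,9,10,5,4,3,6,5,7,11,10,5,4,3,6,5,4,7,6,8,7,10,5,6,11,10,5,4,3,2,1,2,3,4,5,10,11,6,5,10,7,8,6,7,4,5,6,3,4,5,10,11,7,5,6,3,4,5,10,9,8,7,6,5,4,3,2,3,4,5,6,7,8,9,10,5,4,3,6,5,7,11,10,5,4,3,6,5,4,7,6,8,7,10,5,6,11,10,5,4,3,2,1,2,3,4,5,10,11,6,5,10,7,8,6,7,4,5,6,3])))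
 (Tr.node (Tr.node (Tr.leaf [7,5,7,5])
 (Tr.leaf [8,7,10,5,6,11,10,5,4,3,2,1,2,3,4,5,10,11,6,5,10,7,8,6,7,4,5,6,3,4,5,10,11,7,5,6,3,4,5,10,9,8,7,6,5,4,3,2,3,4,5,6,7,8,9,10,5,4,3,6,5,7,11,10,5,4,3,6,5,4,7,6,8,7,10,5,6,11,10,5,4,3,2,1,2,3,4,5,10,11,6,5,10,7,8,6,7,4,5,6,3,4,5,10,11,7,5,6,3,4,5,10,9,8,7,6,5,4,3,2,3,4,5,6,7,8,9,10,5,4,3,6,5,7,11,10,5,4,3,6,5,4,7,6]))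
 (Tr.node (Tr.leaf [2,9,2,9])
 (Tr.leaf []))))))))
 (Tr.node (Tr.node (Tr.node (Tr.node (Tr.node (Tr.node (Tr.node (Tr.leaf [1,1])
 (Tr.leaf [5,9,5,9]))
 (Tr.node (Tr.leaf [11,5,11,5])
 (Tr.leaf [9,8,7,6,5,4,3,2,3,4,5,6,7,8,9,10,5,4,3,6,5,7,11,10,5,4,3,6,5,4,7,6,8,7,10,5,6,11,10,5,4,3,2,1,2,3,4,5,10,11,6,5,10,7,8,6,7,4,5,6,3,4,5,10,11,7,5,6,3,4,5,10,9,8,7,6,5,4,3,2,3,4,5,6,7,8,9,10,5,4,3,6,5,7,11,10,5,4,3,6,5,4,7,6,8,7,10,5,6,11,10,5,4,3,2,1,2,3,4,5,10,11,6,5,10,7,8,6,7,4,5,6,3,4,5,10,11,7,5,6,3,4,5,10])))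
 (Tr.node (Tr.node (Tr.leaf [3,3])
 (Tr.leaf [4,5,6,7,10,2,3,4,5,6,7,10,2,3,4,5,6,7,10,2,3,4,5,6,7,10,2,3,4,5,6,7,10,2,3,4,5,6,7,10,2,3,4,5,6,7,10,0,2,3,4,5,6,7,10,2,3,4,5,6,7,10,2,3]))
 (Tr.node (Tr.leaf [6,10,6,10])
 (Tr.leaf [5,6,11,10,5,4,3,2,1,2,3,4,5,10,11,6,5,10,7,8,6,7,4,5,6,3,4,5,10,11,7,5,6,3,4,5,10,9,8,7,6,5,4,3,2,3,4,5,6,7,8,9,10,5,4,3,6,5,7,11,10,5,4,3,6,5,4,7,6,8,7,10,5,6,11,10,5,4,3,2,1,2,3,4,5,10,11,6,5,10,7,8,6,7,4,5,6,3,4,5,10,11,7,5,6,3,4,5,10,9,8,7,6,5,4,3,2,3,4,5,6,7,8,9,10,5,4,3,6,5,7,11,10,5,4,3,6,5,4,7,6,8,7,10]))))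
 (Tr.node (Tr.node (Tr.node (Tr.leaf [7,0,7,0])
 (Tr.leaf [10,9,10,9]))
 (Tr.node (Tr.leaf [4,10,4,10])
 (Tr.leaf [7,6,5,4,3,2,10,7,6,5,4,3,2,10,7,6,5,4,3,2,0,10,7,6,5,4,3,2,10,7,6,5,4,3,2,10,7,6,5,4,3,2,10,7,6,5,4,3,2,10,7,6,5,4,3,2,10,7,6,5,4,3,2,10])))
 (Tr.node (Tr.node (Tr.leaf [3,4,3,4,3,4])
 (Tr.leaf [2,3,4,5,6,7,10,2,3,4,5,6,7,10,2,3,4,5,6,7,10,2,3,4,5,6,7,10,2,3,4,5,6,7,10,2,3,4,5,6,7,10,2,3,4,5,6,7,10,2,3,4,5,6,7,10,0,2,3,4,5,6,7,10]))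
 (Tr.node (Tr.leaf [2,8,2,8])
 (Tr.leaf [7,11,10,5,4,3,6,5,4,7,6,8,7,10,5,6,11,10,5,4,3,2,1,2,3,4,5,10,11,6,5,10,7,8,6,7,4,5,6,3,4,5,10,11,7,5,6,3,4,5,10,9,8,7,6,5,4,3,2,3,4,5,6,7,8,9,10,5,4,3,6,5,7,11,10,5,4,3,6,5,4,7,6,8,7,10,5,6,11,10,5,4,3,2,1,2,3,4,5,10,11,6,5,10,7,8,6,7,4,5,6,3,4,5,10,11,7,5,6,3,4,5,10,9,8,7,6,5,4,3,2,3,4,5,6,7,8,9,10,5,4,3,6,5])))))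
 (Tr.node (Tr.node (Tr.node (Tr.node (Tr.leaf [10,1,10,1])
 (Tr.leaf [10,6,10,6]))
 (Tr.node (Tr.leaf [5,6,5,6,5,6])
 (Tr.leaf [2,3,4,5,6,7,10,2,3,4,5,6,7,10,2,3,4,5,6,7,10,2,3,4,5,6,7,10,0,2,3,4,5,6,7,10,2,3,4,5,6,7,10,2,3,4,5,6,7,10,2,3,4,5,6,7,10,2,3,4,5,6,7,10])))
 (Tr.node (Tr.node (Tr.leaf [10,3,10,3])
 (Tr.leaf [7,10,0,2,3,4,5,6,7,10,2,3,4,5,6,7,10,2,3,4,5,6,7,10,2,3,4,5,6,7,10,2,3,4,5,6,7,10,2,3,4,5,6,7,10,2,3,4,5,6,7,10,2,3,4,5,6,7,10,2,3,4,5,6]))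
 (Tr.node (Tr.leaf [8,11,8,11])
 (Tr.leaf [5,10,7,8,6,7,4,5,6,3,4,5,10,11,7,5,6,3,4,5,10,9,8,7,6,5,4,3,2,3,4,5,6,7,8,9,10,5,4,3,6,5,7,11,10,5,4,3,6,5,4,7,6,8,7,10,5,6,11,10,5,4,3,2,1,2,3,4,5,10,11,6,5,10,7,8,6,7,4,5,6,3,4,5,10,11,7,5,6,3,4,5,10,9,8,7,6,5,4,3,2,3,4,5,6,7,8,9,10,5,4,3,6,5,7,11,10,5,4,3,6,5,4,7,6,8,7,10,5,6,11,10,5,4,3,2,1,2,3,4,5,10,11,6]))))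
 (Tr.node (Tr.node (Tr.node (Tr.leaf [5,2,5,2])
 (Tr.leaf [4,5,6,7,10,0,2,3,4,5,6,7,10,2,3,4,5,6,7,10,2,3,4,5,6,7,10,2,3,4,5,6,7,10,2,3,4,5,6,7,10,2,3,4,5,6,7,10,2,3,4,5,6,7,10,2,3,4,5,6,7,10,2,3]))
 (Tr.node (Tr.leaf [1,7,1,7])
 (Tr.leaf [6,5,10,7,8,6,7,4,5,6,3,4,5,10,11,7,5,6,3,4,5,10,9,8,7,6,5,4,3,2,3,4,5,6,7,8,9,10,5,4,3,6,5,7,11,10,5,4,3,6,5,4,7,6,8,7,10,5,6,11,10,5,4,3,2,1,2,3,4,5,10,11,6,5,10,7,8,6,7,4,5,6,3,4,5,10,11,7,5,6,3,4,5,10,9,8,7,6,5,4,3,2,3,4,5,6,7,8,9,10,5,4,3,6,5,7,11,10,5,4,3,6,5,4,7,6,8,7,10,5,6,11,10,5,4,3,2,1,2,3,4,5,10,11])))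
 (Tr.node (Tr.node (Tr.leaf [5,5])
 (Tr.leaf [0,10,7,6,5,4,3,2,10,7,6,5,4,3,2,10,7,6,5,4,3,2,10,7,6,5,4,3,2,10,7,6,5,4,3,2,10,7,6,5,4,3,2,10,7,6,5,4,3,2,10,7,6,5,4,3,2,10,7,6,5,4,3,2]))
 (Tr.node (Tr.leaf [10,5,10,5,10,5])
 (Tr.leaf []))))))
 (Tr.node (Tr.node (Tr.node (Tr.node (Tr.node (Tr.leaf [6,1,6,1])
 (Tr.leaf [11,9,11,9]))
 (Tr.node (Tr.leaf [1,6,1,6])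
 (Tr.leaf [10,5,6,11,10,5,4,3,2,1,2,3,4,5,10,11,6,5,10,7,8,6,7,4,5,6,3,4,5,10,11,7,5,6,3,4,5,10,9,8,7,6,5,4,3,2,3,4,5,6,7,8,9,10,5,4,3,6,5,7,11,10,5,4,3,6,5,4,7,6,8,7,10,5,6,11,10,5,4,3,2,1,2,3,4,5,10,11,6,5,10,7,8,6,7,4,5,6,3,4,5,10,11,7,5,6,3,4,5,10,9,8,7,6,5,4,3,2,3,4,5,6,7,8,9,10,5,4,3,6,5,7,11,10,5,4,3,6,5,4,7,6,8,7])))
 (Tr.node (Tr.node (Tr.leaf [6,3,6,3])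
 (Tr.leaf [0,2,3,4,5,6,7,10,2,3,4,5,6,7,10,2,3,4,5,6,7,10,2,3,4,5,6,7,10,2,3,4,5,6,7,10,2,3,4,5,6,7,10,2,3,4,5,6,7,10,2,3,4,5,6,7,10,2,3,4,5,6,7,10]))
 (Tr.node (Tr.leaf [3,11,3,11])
 (Tr.leaf [6,5,4,7,6,8,7,10,5,6,11,10,5,4,3,2,1,2,3,4,5,10,11,6,5,10,7,8,6,7,4,5,6,3,4,5,10,11,7,5,6,3,4,5,10,9,8,7,6,5,4,3,2,3,4,5,6,7,8,9,10,5,4,3,6,5,7,11,10,5,4,3,6,5,4,7,6,8,7,10,5,6,11,10,5,4,3,2,1,2,3,4,5,10,11,6,5,10,7,8,6,7,4,5,6,3,4,5,10,11,7,5,6,3,4,5,10,9,8,7,6,5,4,3,2,3,4,5,6,7,8,9,10,5,4,3,6,5,7,11,10,5,4,3]))))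
 (Tr.node (Tr.node (Tr.node (Tr.leaf [11,0,11,0])
 (Tr.leaf [6,7,10,2,3,4,5,6,7,10,2,3,4,5,6,7,10,2,3,4,5,6,7,10,2,3,4,5,6,7,10,2,3,4,5,6,7,10,2,3,4,5,6,7,10,2,3,4,5,6,7,10,2,3,4,5,6,7,10,0,2,3,4,5]))
 (Tr.node (Tr.leaf [9,10,9,10])
 (Tr.leaf [7,6,5,4,3,2,3,4,5,6,7,8,9,10,5,4,3,6,5,7,11,10,5,4,3,6,5,4,7,6,8,7,10,5,6,11,10,5,4,3,2,1,2,3,4,5,10,11,6,5,10,7,8,6,7,4,5,6,3,4,5,10,11,7,5,6,3,4,5,10,9,8,7,6,5,4,3,2,3,4,5,6,7,8,9,10,5,4,3,6,5,7,11,10,5,4,3,6,5,4,7,6,8,7,10,5,6,11,10,5,4,3,2,1,2,3,4,5,10,11,6,5,10,7,8,6,7,4,5,6,3,4,5,10,11,7,5,6,3,4,5,10,9,8])))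
 (Tr.node (Tr.node (Tr.leaf [9,4,9,4])
 (Tr.leaf [7,6,5,4,3,2,10,7,6,5,4,3,2,10,7,6,5,4,3,2,10,7,6,5,4,3,2,10,7,6,5,4,3,2,10,7,6,5,4,3,2,0,10,7,6,5,4,3,2,10,7,6,5,4,3,2,10,7,6,5,4,3,2,10]))
 (Tr.node (Tr.leaf [6,8,6,8])
 (Tr.leaf [])))))
 (Tr.node (Tr.node (Tr.node (Tr.node (Tr.leaf [3,0,3,0])
 (Tr.leaf [2,0,2,0]))
 (Tr.node (Tr.leaf [10,10])
 (Tr.leaf [5,6,7,10,2,3,4,5,6,7,10,2,3,4,5,6,7,10,2,3,4,5,6,7,10,2,3,4,5,6,7,10,2,3,4,5,6,7,10,0,2,3,4,5,6,7,10,2,3,4,5,6,7,10,2,3,4,5,6,7,10,2,3,4])))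
 (Tr.node (Tr.node (Tr.leaf [0,3,0,3])
 (Tr.leaf [5,4,3,2,10,7,6,5,4,3,2,10,7,6,5,4,3,2,10,7,6,5,4,3,2,10,7,6,5,4,3,2,10,7,6,5,4,3,2,10,7,6,5,4,3,2,10,7,6,5,4,3,2,0,10,7,6,5,4,3,2,10,7,6]))
 (Tr.node (Tr.leaf [0,7,0,7])
 (Tr.leaf [11,7,5,6,3,4,5,10,9,8,7,6,5,4,3,2,3,4,5,6,7,8,9,10,5,4,3,6,5,7,11,10,5,4,3,6,5,4,7,6,8,7,10,5,6,11,10,5,4,3,2,1,2,3,4,5,10,11,6,5,10,7,8,6,7,4,5,6,3,4,5,10,11,7,5,6,3,4,5,10,9,8,7,6,5,4,3,2,3,4,5,6,7,8,9,10,5,4,3,6,5,7,11,10,5,4,3,6,5,4,7,6,8,7,10,5,6,11,10,5,4,3,2,1,2,3,4,5,10,11,6,5,10,7,8,6,7,4,5,6,3,4,5,10]))))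
 (Tr.node (Tr.node (Tr.node (Tr.leaf [9,2,9,2])
 (Tr.leaf [5,6,7,10,2,3,4,5,6,7,10,2,3,4,5,6,7,10,2,3,4,5,6,7,10,2,3,4,5,6,7,10,2,3,4,5,6,7,10,2,3,4,5,6,7,10,2,3,4,5,6,7,10,2,3,4,5,6,7,10,0,2,3,4]))
 (Tr.node (Tr.leaf [5,7,5,7])
 (Tr.leaf [6,7,10,2,3,4,5,6,7,10,2,3,4,5,6,7,10,2,3,4,5,6,7,10,2,3,4,5,6,7,10,2,3,4,5,6,7,10,2,3,4,5,6,7,10,2,3,4,5,6,7,10,0,2,3,4,5,6,7,10,2,3,4,5])))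
 (Tr.node (Tr.node (Tr.leaf [4,5,4,5,4,5])
 (Tr.leaf [11,10,5,4,3,2,1,2,3,4,5,10,11,6,5,10,7,8,6,7,4,5,6,3,4,5,10,11,7,5,6,3,4,5,10,9,8,7,6,5,4,3,2,3,4,5,6,7,8,9,10,5,4,3,6,5,7,11,10,5,4,3,6,5,4,7,6,8,7,10,5,6,11,10,5,4,3,2,1,2,3,4,5,10,11,6,5,10,7,8,6,7,4,5,6,3,4,5,10,11,7,5,6,3,4,5,10,9,8,7,6,5,4,3,2,3,4,5,6,7,8,9,10,5,4,3,6,5,7,11,10,5,4,3,6,5,4,7,6,8,7,10,5,6]))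
 (Tr.node (Tr.leaf [1,9,1,9])
 (Tr.leaf [])))))))
 (Tr.node (Tr.node (Tr.node (Tr.node (Tr.node (Tr.node (Tr.leaf [4,1,4,1])
 (Tr.leaf [7,9,7,9]))
 (Tr.node (Tr.leaf [0,5,0,5])
 (Tr.leaf [10,11,6,5,10,7,8,6,7,4,5,6,3,4,5,10,11,7,5,6,3,4,5,10,9,8,7,6,5,4,3,2,3,4,5,6,7,8,9,10,5,4,3,6,5,7,11,10,5,4,3,6,5,4,7,6,8,7,10,5,6,11,10,5,4,3,2,1,2,3,4,5,10,11,6,5,10,7,8,6,7,4,5,6,3,4,5,10,11,7,5,6,3,4,5,10,9,8,7,6,5,4,3,2,3,4,5,6,7,8,9,10,5,4,3,6,5,7,11,10,5,4,3,6,5,4,7,6,8,7,10,5,6,11,10,5,4,3,2,1,2,3,4,5])))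
 (Tr.node (Tr.node (Tr.leaf [2,3,2,3,2,3])
 (Tr.leaf [7,6,5,4,3,2,10,7,6,5,4,3,2,0,10,7,6,5,4,3,2,10,7,6,5,4,3,2,10,7,6,5,4,3,2,10,7,6,5,4,3,2,10,7,6,5,4,3,2,10,7,6,5,4,3,2,10,7,6,5,4,3,2,10]))
 (Tr.node (Tr.leaf [1,11,1,11])
 (Tr.leaf [10,5,4,3,6,5,7,11,10,5,4,3,6,5,4,7,6,8,7,10,5,6,11,10,5,4,3,2,1,2,3,4,5,10,11,6,5,10,7,8,6,7,4,5,6,3,4,5,10,11,7,5,6,3,4,5,10,9,8,7,6,5,4,3,2,3,4,5,6,7,8,9,10,5,4,3,6,5,7,11,10,5,4,3,6,5,4,7,6,8,7,10,5,6,11,10,5,4,3,2,1,2,3,4,5,10,11,6,5,10,7,8,6,7,4,5,6,3,4,5,10,11,7,5,6,3,4,5,10,9,8,7,6,5,4,3,2,3,4,5,6,7,8,9]))))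
 (Tr.node (Tr.node (Tr.node (Tr.leaf [9,0,9,0])
 (Tr.leaf [10,7,6,5,4,3,2,0,10,7,6,5,4,3,2,10,7,6,5,4,3,2,10,7,6,5,4,3,2,10,7,6,5,4,3,2,10,7,6,5,4,3,2,10,7,6,5,4,3,2,10,7,6,5,4,3,2,10,7,6,5,4,3,2]))
 (Tr.node (Tr.leaf [7,10,7,10])
 (Tr.leaf [5,6,3,4,5,10,11,7,5,6,3,4,5,10,9,8,7,6,5,4,3,2,3,4,5,6,7,8,9,10,5,4,3,6,5,7,11,10,5,4,3,6,5,4,7,6,8,7,10,5,6,11,10,5,4,3,2,1,2,3,4,5,10,11,6,5,10,7,8,6,7,4,5,6,3,4,5,10,11,7,5,6,3,4,5,10,9,8,7,6,5,4,3,2,3,4,5,6,7,8,9,10,5,4,3,6,5,7,11,10,5,4,3,6,5,4,7,6,8,7,10,5,6,11,10,5,4,3,2,1,2,3,4,5,10,11,6,5,10,7,8,6,7,4])))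
 (Tr.node (Tr.node (Tr.leaf [7,4,7,4])
 (Tr.leaf [3,4,5,6,7,10,2,3,4,5,6,7,10,2,3,4,5,6,7,10,2,3,4,5,6,7,10,2,3,4,5,6,7,10,2,3,4,5,6,7,10,2,3,4,5,6,7,10,0,2,3,4,5,6,7,10,2,3,4,5,6,7,10,2]))
 (Tr.node (Tr.leaf [4,8,4,8])
 (Tr.leaf [])))))
 (Tr.node (Tr.node (Tr.node (Tr.node (Tr.leaf [0,0])
 (Tr.leaf [8,7,8,7,8,7]))
 (Tr.node (Tr.leaf [9,6,9,6])
 (Tr.leaf [3,4,5,6,7,8,9,10,5,4,3,6,5,7,11,10,5,4,3,6,5,4,7,6,8,7,10,5,6,11,10,5,4,3,2,1,2,3,4,5,10,11,6,5,10,7,8,6,7,4,5,6,3,4,5,10,11,7,5,6,3,4,5,10,9,8,7,6,5,4,3,2,3,4,5,6,7,8,9,10,5,4,3,6,5,7,11,10,5,4,3,6,5,4,7,6,8,7,10,5,6,11,10,5,4,3,2,1,2,3,4,5,10,11,6,5,10,7,8,6,7,4,5,6,3,4,5,10,11,7,5,6,3,4,5,10,9,8,7,6,5,4,3,2])))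
 (Tr.node (Tr.node (Tr.leaf [0,1,0,1,0,1])
 (Tr.leaf [6,7,10,0,2,3,4,5,6,7,10,2,3,4,5,6,7,10,2,3,4,5,6,7,10,2,3,4,5,6,7,10,2,3,4,5,6,7,10,2,3,4,5,6,7,10,2,3,4,5,6,7,10,2,3,4,5,6,7,10,2,3,4,5]))
 (Tr.node (Tr.leaf [10,11,10,11,10,11])
 (Tr.leaf [5,10,9,8,7,6,5,4,3,2,3,4,5,6,7,8,9,10,5,4,3,6,5,7,11,10,5,4,3,6,5,4,7,6,8,7,10,5,6,11,10,5,4,3,2,1,2,3,4,5,10,11,6,5,10,7,8,6,7,4,5,6,3,4,5,10,11,7,5,6,3,4,5,10,9,8,7,6,5,4,3,2,3,4,5,6,7,8,9,10,5,4,3,6,5,7,11,10,5,4,3,6,5,4,7,6,8,7,10,5,6,11,10,5,4,3,2,1,2,3,4,5,10,11,6,5,10,7,8,6,7,4,5,6,3,4,5,10,11,7,5,6,3,4]))))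
 (Tr.node (Tr.node (Tr.node (Tr.leaf [7,2,7,2])
 (Tr.leaf [3,4,5,6,7,10,2,3,4,5,6,7,10,2,3,4,5,6,7,10,2,3,4,5,6,7,10,2,3,4,5,6,7,10,2,3,4,5,6,7,10,2,3,4,5,6,7,10,2,3,4,5,6,7,10,0,2,3,4,5,6,7,10,2]))
 (Tr.node (Tr.leaf [3,7,3,7])
 (Tr.leaf [4,5,10,9,8,7,6,5,4,3,2,3,4,5,6,7,8,9,10,5,4,3,6,5,7,11,10,5,4,3,6,5,4,7,6,8,7,10,5,6,11,10,5,4,3,2,1,2,3,4,5,10,11,6,5,10,7,8,6,7,4,5,6,3,4,5,10,11,7,5,6,3,4,5,10,9,8,7,6,5,4,3,2,3,4,5,6,7,8,9,10,5,4,3,6,5,7,11,10,5,4,3,6,5,4,7,6,8,7,10,5,6,11,10,5,4,3,2,1,2,3,4,5,10,11,6,5,10,7,8,6,7,4,5,6,3,4,5,10,11,7,5,6,3])))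
 (Tr.node (Tr.node (Tr.leaf [2,5,2,5])
 (Tr.leaf [5,6,7,10,2,3,4,5,6,7,10,2,3,4,5,6,7,10,0,2,3,4,5,6,7,10,2,3,4,5,6,7,10,2,3,4,5,6,7,10,2,3,4,5,6,7,10,2,3,4,5,6,7,10,2,3,4,5,6,7,10,2,3,4]))
 (Tr.node (Tr.leaf [0,8,0,8])
 (Tr.leaf []))))))
 (Tr.node (Tr.node (Tr.node (Tr.node (Tr.node (Tr.leaf [8,1,8,1])
 (Tr.leaf [0,9,0,9]))
 (Tr.node (Tr.leaf [3,6,3,6])
 (Tr.leaf [5,6,3,4,5,10,9,8,7,6,5,4,3,2,3,4,5,6,7,8,9,10,5,4,3,6,5,7,11,10,5,4,3,6,5,4,7,6,8,7,10,5,6,11,10,5,4,3,2,1,2,3,4,5,10,11,6,5,10,7,8,6,7,4,5,6,3,4,5,10,11,7,5,6,3,4,5,10,9,8,7,6,5,4,3,2,3,4,5,6,7,8,9,10,5,4,3,6,5,7,11,10,5,4,3,6,5,4,7,6,8,7,10,5,6,11,10,5,4,3,2,1,2,3,4,5,10,11,6,5,10,7,8,6,7,4,5,6,3,4,5,10,11,7])))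
 (Tr.node (Tr.node (Tr.leaf [8,3,8,3])
 (Tr.leaf [5,6,7,10,2,3,4,5,6,7,10,2,3,4,5,6,7,10,2,3,4,5,6,7,10,2,3,4,5,6,7,10,2,3,4,5,6,7,10,2,3,4,5,6,7,10,2,3,4,5,6,7,10,0,2,3,4,5,6,7,10,2,3,4]))
 (Tr.node (Tr.leaf [5,11,5,11])
 (Tr.leaf [5,10,11,7,5,6,3,4,5,10,9,8,7,6,5,4,3,2,3,4,5,6,7,8,9,10,5,4,3,6,5,7,11,10,5,4,3,6,5,4,7,6,8,7,10,5,6,11,10,5,4,3,2,1,2,3,4,5,10,11,6,5,10,7,8,6,7,4,5,6,3,4,5,10,11,7,5,6,3,4,5,10,9,8,7,6,5,4,3,2,3,4,5,6,7,8,9,10,5,4,3,6,5,7,11,10,5,4,3,6,5,4,7,6,8,7,10,5,6,11,10,5,4,3,2,1,2,3,4,5,10,11,6,5,10,7,8,6,7,4,5,6,3,4]))))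
 (Tr.node (Tr.node (Tr.node (Tr.leaf [1,2,1,2,1,2])
 (Tr.leaf [4,5,6,7,10,2,3,4,5,6,7,10,2,3,4,5,6,7,10,2,3,4,5,6,7,10,2,3,4,5,6,7,10,2,3,4,5,6,7,10,2,3,4,5,6,7,10,2,3,4,5,6,7,10,0,2,3,4,5,6,7,10,2,3]))
 (Tr.node (Tr.leaf [0,10,0,10])
 (Tr.leaf [7,6,8,7,10,5,6,11,10,5,4,3,2,1,2,3,4,5,10,11,6,5,10,7,8,6,7,4,5,6,3,4,5,10,11,7,5,6,3,4,5,10,9,8,7,6,5,4,3,2,3,4,5,6,7,8,9,10,5,4,3,6,5,7,11,10,5,4,3,6,5,4,7,6,8,7,10,5,6,11,10,5,4,3,2,1,2,3,4,5,10,11,6,5,10,7,8,6,7,4,5,6,3,4,5,10,11,7,5,6,3,4,5,10,9,8,7,6,5,4,3,2,3,4,5,6,7,8,9,10,5,4,3,6,5,7,11,10,5,4,3,6,5,4])))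
 (Tr.node (Tr.node (Tr.leaf [11,4,11,4])
 (Tr.leaf [2,3,4,5,6,7,8,9,10,5,4,3,6,5,7,11,10,5,4,3,6,5,4,7,6,8,7,10,5,6,11,10,5,4,3,2,1,2,3,4,5,10,11,6,5,10,7,8,6,7,4,5,6,3,4,5,10,11,7,5,6,3,4,5,10,9,8,7,6,5,4,3,2,3,4,5,6,7,8,9,10,5,4,3,6,5,7,11,10,5,4,3,6,5,4,7,6,8,7,10,5,6,11,10,5,4,3,2,1,2,3,4,5,10,11,6,5,10,7,8,6,7,4,5,6,3,4,5,10,11,7,5,6,3,4,5,10,9,8,7,6,5,4,3]))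
 (Tr.node (Tr.leaf [11,8,11,8])
 (Tr.leaf [])))))
 (Tr.node (Tr.node (Tr.node (Tr.node (Tr.leaf [5,0,5,0])
 (Tr.leaf [10,8,10,8]))
 (Tr.node (Tr.leaf [2,10,2,10])
 (Tr.leaf [3,4,5,10,11,7,5,6,3,4,5,10,9,8,7,6,5,4,3,2,3,4,5,6,7,8,9,10,5,4,3,6,5,7,11,10,5,4,3,6,5,4,7,6,8,7,10,5,6,11,10,5,4,3,2,1,2,3,4,5,10,11,6,5,10,7,8,6,7,4,5,6,3,4,5,10,11,7,5,6,3,4,5,10,9,8,7,6,5,4,3,2,3,4,5,6,7,8,9,10,5,4,3,6,5,7,11,10,5,4,3,6,5,4,7,6,8,7,10,5,6,11,10,5,4,3,2,1,2,3,4,5,10,11,6,5,10,7,8,6,7,4,5,6])))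
 (Tr.node (Tr.node (Tr.leaf [1,4,1,4])
 (Tr.leaf [7,6,5,4,3,2,10,7,6,5,4,3,2,10,7,6,5,4,3,2,10,7,6,5,4,3,2,10,7,6,5,4,3,2,10,7,6,5,4,3,2,10,7,6,5,4,3,2,10,7,6,5,4,3,2,0,10,7,6,5,4,3,2,10]))
 (Tr.node (Tr.leaf [8,8])
 (Tr.leaf [4,5,10,11,6,5,10,7,8,6,7,4,5,6,3,4,5,10,11,7,5,6,3,4,5,10,9,8,7,6,5,4,3,2,3,4,5,6,7,8,9,10,5,4,3,6,5,7,11,10,5,4,3,6,5,4,7,6,8,7,10,5,6,11,10,5,4,3,2,1,2,3,4,5,10,11,6,5,10,7,8,6,7,4,5,6,3,4,5,10,11,7,5,6,3,4,5,10,9,8,7,6,5,4,3,2,3,4,5,6,7,8,9,10,5,4,3,6,5,7,11,10,5,4,3,6,5,4,7,6,8,7,10,5,6,11,10,5,4,3,2,1,2,3]))))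
 (Tr.node (Tr.node (Tr.node (Tr.leaf [11,2,11,2])
 (Tr.leaf [5,4,3,2,10,7,6,5,4,3,2,10,7,6,5,4,3,2,10,7,6,5,4,3,2,10,7,6,5,4,3,2,10,7,6,5,4,3,2,10,7,6,5,4,3,2,10,7,6,5,4,3,2,10,7,6,5,4,3,2,0,10,7,6]))
 (Tr.node (Tr.leaf [9,7,9,7])
 (Tr.leaf [8,9,10,5,4,3,6,5,7,11,10,5,4,3,6,5,4,7,6,8,7,10,5,6,11,10,5,4,3,2,1,2,3,4,5,10,11,6,5,10,7,8,6,7,4,5,6,3,4,5,10,11,7,5,6,3,4,5,10,9,8,7,6,5,4,3,2,3,4,5,6,7,8,9,10,5,4,3,6,5,7,11,10,5,4,3,6,5,4,7,6,8,7,10,5,6,11,10,5,4,3,2,1,2,3,4,5,10,11,6,5,10,7,8,6,7,4,5,6,3,4,5,10,11,7,5,6,3,4,5,10,9,8,7,6,5,4,3,2,3,4,5,6,7])))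
 (Tr.node (Tr.node (Tr.leaf [8,5,8,5])
 (Tr.leaf [8,6,7,4,5,6,3,4,5,10,11,7,5,6,3,4,5,10,9,8,7,6,5,4,3,2,3,4,5,6,7,8,9,10,5,4,3,6,5,7,11,10,5,4,3,6,5,4,7,6,8,7,10,5,6,11,10,5,4,3,2,1,2,3,4,5,10,11,6,5,10,7,8,6,7,4,5,6,3,4,5,10,11,7,5,6,3,4,5,10,9,8,7,6,5,4,3,2,3,4,5,6,7,8,9,10,5,4,3,6,5,7,11,10,5,4,3,6,5,4,7,6,8,7,10,5,6,11,10,5,4,3,2,1,2,3,4,5,10,11,6,5,10,7]))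
 (Tr.node (Tr.leaf [3,9,3,9])
 (Tr.leaf [])))))))))

/-- The subgroup rotations. -/
noncomputable def srotT : Tr (List Nat × Nat × List Nat) := (Tr.node (Tr.node (Tr.node (Tr.node (Tr.leaf ([],2,[]))
 (Tr.leaf ([],10,[])))
 (Tr.node (Tr.leaf ([],6,[]))
 (Tr.leaf ([],0,[]))))
 (Tr.node (Tr.node (Tr.leaf ([],4,[]))
 (Tr.leaf ([],0,[])))
 (Tr.node (Tr.leaf ([],8,[]))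
 (Tr.leaf ([],0,[])))))
 (Tr.node (Tr.node (Tr.node (Tr.leaf ([],3,[]))
 (Tr.leaf ([],11,[])))
 (Tr.node (Tr.leaf ([],7,[]))
 (Tr.leaf ([],0,[]))))
 (Tr.node (Tr.node (Tr.leaf ([],5,[]))
 (Tr.leaf ([],0,[])))
 (Tr.node (Tr.leaf ([],9,[]))
 (Tr.leaf ([],0,[]))))))

/-- The certificate. -/
noncomputable def cert : Cert :=
  mkCert 12 394425 4652235 4 243 254 4 15 827 60 720 804 1152921504606846975 19342813113834066795298815 23 19 8388607 524287 42 38 15 ctree.get rotT.get srotT.get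

/-- The witnesses of the rotations. -/
noncomputable def witT : Tr (Nat × Nat × Bool) := (Tr.node (Tr.node (Tr.node (Tr.node (Tr.node (Tr.node (Tr.node (Tr.node (Tr.leaf (0,0,false))
 (Tr.leaf (47,0,false)))
 (Tr.node (Tr.leaf (54,1,false))
 (Tr.leaf (79,51,false))))
 (Tr.node (Tr.node (Tr.leaf (2,0,false))
 (Tr.leaf (78,3,false)))
 (Tr.node (Tr.leaf (67,1,false))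
 (Tr.leaf (79,6,false)))))
 (Tr.node (Tr.node (Tr.node (Tr.leaf (6,1,false))
 (Tr.leaf (78,2,true)))
 (Tr.node (Tr.leaf (40,0,false))
 (Tr.leaf (78,28,true))))
 (Tr.node (Tr.node (Tr.leaf (25,0,false))
 (Tr.leaf (78,53,true)))
 (Tr.node (Tr.leaf (19,0,false))
 (Tr.leaf (79,32,false))))))
 (Tr.node (Tr.node (Tr.node (Tr.node (Tr.leaf (20,1,false))
 (Tr.leaf (58,1,false)))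
 (Tr.node (Tr.leaf (44,0,false))
 (Tr.leaf (78,25,true))))
 (Tr.node (Tr.node (Tr.leaf (39,1,false))
 (Tr.leaf (78,35,false)))
 (Tr.node (Tr.leaf (67,0,false))
 (Tr.leaf (79,14,false)))))
 (Tr.node (Tr.node (Tr.node (Tr.leaf (25,1,false))
 (Tr.leaf (78,5,true)))
 (Tr.node (Tr.leaf (63,0,false))
 (Tr.leaf (79,40,false))))
 (Tr.node (Tr.node (Tr.leaf (4,0,false))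
 (Tr.leaf (78,8,false)))
 (Tr.node (Tr.leaf (51,1,false))
 (Tr.leaf (0,0,false)))))))
 (Tr.node (Tr.node (Tr.node (Tr.node (Tr.node (Tr.leaf (16,1,false))
 (Tr.leaf (69,0,false)))
 (Tr.node (Tr.leaf (57,0,false))
 (Tr.leaf (79,25,false))))
 (Tr.node (Tr.node (Tr.leaf (35,1,false))
 (Tr.leaf (78,10,false)))
 (Tr.node (Tr.leaf (32,0,false))
 (Tr.leaf (79,12,false)))))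
 (Tr.node (Tr.node (Tr.node (Tr.leaf (10,1,false))
 (Tr.leaf (78,43,false)))
 (Tr.node (Tr.leaf (70,0,false))
 (Tr.leaf (79,39,false))))
 (Tr.node (Tr.node (Tr.leaf (46,1,false))
 (Tr.leaf (78,18,true)))
 (Tr.node (Tr.leaf (53,0,false))
 (Tr.leaf (0,0,false))))))
 (Tr.node (Tr.node (Tr.node (Tr.node (Tr.leaf (1,1,false))
 (Tr.leaf (66,1,false)))
 (Tr.node (Tr.leaf (62,1,false))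
 (Tr.leaf (78,17,false))))
 (Tr.node (Tr.node (Tr.leaf (13,1,false))
 (Tr.leaf (78,7,false)))
 (Tr.node (Tr.leaf (34,1,false))
 (Tr.leaf (79,24,false)))))
 (Tr.node (Tr.node (Tr.node (Tr.leaf (29,1,false))
 (Tr.leaf (78,1,false)))
 (Tr.node (Tr.leaf (45,0,false))
 (Tr.leaf (79,67,false))))
 (Tr.node (Tr.node (Tr.leaf (35,0,false))
 (Tr.leaf (78,49,true)))
 (Tr.node (Tr.leaf (72,0,false))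
 (Tr.leaf (0,0,false))))))))
 (Tr.node (Tr.node (Tr.node (Tr.node (Tr.node (Tr.node (Tr.leaf (14,1,false))
 (Tr.leaf (60,0,false)))
 (Tr.node (Tr.leaf (24,1,false))
 (Tr.leaf (78,58,false))))
 (Tr.node (Tr.node (Tr.leaf (14,0,false))
 (Tr.leaf (78,52,true)))
 (Tr.node (Tr.leaf (77,0,false))
 (Tr.leaf (79,13,false)))))
 (Tr.node (Tr.node (Tr.node (Tr.leaf (8,1,false))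
 (Tr.leaf (78,1,true)))
 (Tr.node (Tr.leaf (55,0,false))
 (Tr.leaf (79,2,false))))
 (Tr.node (Tr.node (Tr.leaf (44,1,false))
 (Tr.leaf (78,0,true)))
 (Tr.node (Tr.leaf (38,0,false))
 (Tr.leaf (79,28,false))))))
 (Tr.node (Tr.node (Tr.node (Tr.node (Tr.leaf (22,1,false))
 (Tr.leaf (76,1,false)))
 (Tr.node (Tr.leaf (59,1,false))
 (Tr.leaf (79,38,false))))
 (Tr.node (Tr.node (Tr.leaf (41,1,false))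
 (Tr.leaf (78,56,true)))
 (Tr.node (Tr.leaf (74,0,false))
 (Tr.leaf (79,22,false)))))
 (Tr.node (Tr.node (Tr.node (Tr.leaf (27,1,false))
 (Tr.leaf (78,2,false)))
 (Tr.node (Tr.leaf (28,0,false))
 (Tr.leaf (79,65,false))))
 (Tr.node (Tr.node (Tr.leaf (16,0,false))
 (Tr.leaf (78,52,false)))
 (Tr.node (Tr.leaf (62,0,false))
 (Tr.leaf (0,0,false)))))))
 (Tr.node (Tr.node (Tr.node (Tr.node (Tr.node (Tr.leaf (18,1,false))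
 (Tr.leaf (43,1,false)))
 (Tr.node (Tr.leaf (27,0,false))
 (Tr.leaf (79,52,false))))
 (Tr.node (Tr.node (Tr.leaf (37,1,false))
 (Tr.leaf (78,12,false)))
 (Tr.node (Tr.leaf (49,0,false))
 (Tr.leaf (79,9,false)))))
 (Tr.node (Tr.node (Tr.node (Tr.leaf (23,0,false))
 (Tr.leaf (78,62,true)))
 (Tr.node (Tr.leaf (6,0,false))
 (Tr.leaf (79,30,false))))
 (Tr.node (Tr.node (Tr.leaf (48,1,false))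
 (Tr.leaf (78,59,true)))
 (Tr.node (Tr.leaf (64,0,false))
 (Tr.leaf (0,0,false))))))
 (Tr.node (Tr.node (Tr.node (Tr.node (Tr.leaf (4,1,false))
 (Tr.leaf (69,1,false)))
 (Tr.node (Tr.leaf (21,0,false))
 (Tr.leaf (79,20,false))))
 (Tr.node (Tr.node (Tr.leaf (42,0,false))
 (Tr.leaf (78,24,false)))
 (Tr.node (Tr.leaf (11,0,false))
 (Tr.leaf (79,16,false)))))
 (Tr.node (Tr.node (Tr.node (Tr.leaf (31,1,false))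
 (Tr.leaf (78,50,false)))
 (Tr.node (Tr.leaf (58,0,false))
 (Tr.leaf (79,18,false))))
 (Tr.node (Tr.node (Tr.leaf (52,1,false))
 (Tr.leaf (79,61,false)))
 (Tr.node (Tr.leaf (30,0,false))
 (Tr.leaf (0,0,false)))))))))
 (Tr.node (Tr.node (Tr.node (Tr.node (Tr.node (Tr.node (Tr.node (Tr.leaf (12,0,false))
 (Tr.leaf (54,0,false)))
 (Tr.node (Tr.leaf (56,1,false))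
 (Tr.leaf (79,29,false))))
 (Tr.node (Tr.node (Tr.leaf (33,0,false))
 (Tr.leaf (78,16,true)))
 (Tr.node (Tr.leaf (61,0,false))
 (Tr.leaf (79,64,false)))))
 (Tr.node (Tr.node (Tr.node (Tr.leaf (7,1,false))
 (Tr.leaf (73,1,false)))
 (Tr.node (Tr.leaf (48,0,false))
 (Tr.leaf (78,44,false))))
 (Tr.node (Tr.node (Tr.leaf (34,0,false))
 (Tr.leaf (78,7,true)))
 (Tr.node (Tr.leaf (29,0,false))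
 (Tr.leaf (79,50,false))))))
 (Tr.node (Tr.node (Tr.node (Tr.node (Tr.leaf (21,1,false))
 (Tr.leaf (61,1,false)))
 (Tr.node (Tr.leaf (51,0,false))
 (Tr.leaf (78,35,true))))
 (Tr.node (Tr.node (Tr.leaf (40,1,false))
 (Tr.leaf (78,61,true)))
 (Tr.node (Tr.leaf (71,0,false))
 (Tr.leaf (79,8,false)))))
 (Tr.node (Tr.node (Tr.node (Tr.leaf (26,1,false))
 (Tr.leaf (78,58,true)))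
 (Tr.node (Tr.leaf (18,0,false))
 (Tr.leaf (79,7,false))))
 (Tr.node (Tr.node (Tr.leaf (50,0,false))
 (Tr.leaf (78,0,false)))
 (Tr.node (Tr.leaf (55,1,false))
 (Tr.leaf (0,0,false)))))))
 (Tr.node (Tr.node (Tr.node (Tr.node (Tr.node (Tr.leaf (17,1,false))
 (Tr.leaf (74,1,false)))
 (Tr.node (Tr.leaf (17,0,false))
 (Tr.leaf (79,63,false))))
 (Tr.node (Tr.node (Tr.leaf (36,1,false))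
 (Tr.leaf (78,63,true)))
 (Tr.node (Tr.leaf (41,0,false))
 (Tr.leaf (79,56,false)))))
 (Tr.node (Tr.node (Tr.node (Tr.leaf (11,1,false))
 (Tr.leaf (78,4,true)))
 (Tr.node (Tr.leaf (73,0,false))
 (Tr.leaf (79,31,false))))
 (Tr.node (Tr.node (Tr.leaf (47,1,false))
 (Tr.leaf (78,23,false)))
 (Tr.node (Tr.leaf (59,0,false))
 (Tr.leaf (0,0,false))))))
 (Tr.node (Tr.node (Tr.node (Tr.node (Tr.leaf (3,1,false))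
 (Tr.leaf (2,1,false)))
 (Tr.node (Tr.leaf (75,0,false))
 (Tr.leaf (78,24,true))))
 (Tr.node (Tr.node (Tr.leaf (3,0,false))
 (Tr.leaf (78,11,false)))
 (Tr.node (Tr.leaf (7,0,false))
 (Tr.leaf (79,21,false)))))
 (Tr.node (Tr.node (Tr.node (Tr.leaf (30,1,false))
 (Tr.leaf (78,3,true)))
 (Tr.node (Tr.leaf (52,0,false))
 (Tr.leaf (78,11,true))))
 (Tr.node (Tr.node (Tr.leaf (43,0,false))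
 (Tr.leaf (79,66,false)))
 (Tr.node (Tr.leaf (20,0,false))
 (Tr.leaf (0,0,false))))))))
 (Tr.node (Tr.node (Tr.node (Tr.node (Tr.node (Tr.node (Tr.leaf (15,1,false))
 (Tr.leaf (65,0,false)))
 (Tr.node (Tr.leaf (5,0,false))
 (Tr.leaf (79,5,false))))
 (Tr.node (Tr.node (Tr.leaf (24,0,false))
 (Tr.leaf (78,51,false)))
 (Tr.node (Tr.leaf (22,0,false))
 (Tr.leaf (79,44,false)))))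
 (Tr.node (Tr.node (Tr.node (Tr.leaf (9,1,false))
 (Tr.leaf (78,57,false)))
 (Tr.node (Tr.leaf (66,0,false))
 (Tr.leaf (79,15,false))))
 (Tr.node (Tr.node (Tr.leaf (45,1,false))
 (Tr.leaf (78,15,true)))
 (Tr.node (Tr.leaf (46,0,false))
 (Tr.leaf (0,0,false))))))
 (Tr.node (Tr.node (Tr.node (Tr.node (Tr.leaf (0,0,false))
 (Tr.leaf (64,1,false)))
 (Tr.node (Tr.leaf (60,1,false))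
 (Tr.leaf (79,37,false))))
 (Tr.node (Tr.node (Tr.leaf (1,0,false))
 (Tr.leaf (78,60,true)))
 (Tr.node (Tr.leaf (76,0,false))
 (Tr.leaf (79,27,false)))))
 (Tr.node (Tr.node (Tr.node (Tr.leaf (28,1,false))
 (Tr.leaf (78,8,true)))
 (Tr.node (Tr.leaf (37,0,false))
 (Tr.leaf (79,26,false))))
 (Tr.node (Tr.node (Tr.leaf (26,0,false))
 (Tr.leaf (78,45,true)))
 (Tr.node (Tr.leaf (8,0,false))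
 (Tr.leaf (0,0,false)))))))
 (Tr.node (Tr.node (Tr.node (Tr.node (Tr.node (Tr.leaf (19,1,false))
 (Tr.leaf (9,0,false)))
 (Tr.node (Tr.leaf (36,0,false))
 (Tr.leaf (79,23,false))))
 (Tr.node (Tr.node (Tr.leaf (38,1,false))
 (Tr.leaf (78,10,true)))
 (Tr.node (Tr.leaf (56,0,false))
 (Tr.leaf (79,19,false)))))
 (Tr.node (Tr.node (Tr.node (Tr.leaf (13,0,false))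
 (Tr.leaf (78,9,true)))
 (Tr.node (Tr.leaf (10,0,false))
 (Tr.leaf (79,59,false))))
 (Tr.node (Tr.node (Tr.leaf (49,1,false))
 (Tr.leaf (79,36,false)))
 (Tr.node (Tr.leaf (71,1,false))
 (Tr.leaf (0,0,false))))))
 (Tr.node (Tr.node (Tr.node (Tr.node (Tr.leaf (5,1,false))
 (Tr.leaf (70,1,false)))
 (Tr.node (Tr.leaf (31,0,false))
 (Tr.leaf (79,17,false))))
 (Tr.node (Tr.node (Tr.leaf (15,0,false))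
 (Tr.leaf (78,9,false)))
 (Tr.node (Tr.leaf (68,0,false))
 (Tr.leaf (79,3,false)))))
 (Tr.node (Tr.node (Tr.node (Tr.leaf (32,1,false))
 (Tr.leaf (78,4,false)))
 (Tr.node (Tr.leaf (65,1,false))
 (Tr.leaf (79,42,false))))
 (Tr.node (Tr.node (Tr.leaf (53,1,false))
 (Tr.leaf (79,11,false)))
 (Tr.node (Tr.leaf (39,0,false))
 (Tr.leaf (0,0,false))))))))))

/-- The relators (words of columns; the columns are `l k a b c d e f g j h i`). -/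
def rels : List (List Nat) :=
  [[0,0],
   [0,1,0,1,0,1],
   [0,2,0,2],
   [0,3,0,3],
   [0,4,0,4],
   [0,5,0,5],
   [0,6,0,6],
   [0,7,0,7],
   [0,8,0,8],
   [0,9,0,9],
   [0,10,0,10],
   [0,11,0,11],
   [1,1],
   [1,2,1,2,1,2],
   [1,3,1,3],
   [1,4,1,4],
   [1,5,1,5],
   [1,6,1,6],
   [1,7,1,7],
   [1,8,1,8],
   [1,9,1,9],
   [1,10,1,10],
   [1,11,1,11],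
   [2,2],
   [2,3,2,3,2,3],
   [2,4,2,4],
   [2,5,2,5],
   [2,6,2,6],
   [2,7,2,7],
   [2,8,2,8],
   [2,9,2,9],
   [2,10,2,10],
   [2,11,2,11],
   [3,3],
   [3,4,3,4,3,4],
   [3,5,3,5],
   [3,6,3,6],
   [3,7,3,7],
   [3,8,3,8],
   [3,9,3,9],
   [3,10,3,10],
   [3,11,3,11],
   [4,4],
   [4,5,4,5,4,5],
   [4,6,4,6],
   [4,7,4,7],
   [4,8,4,8],
   [4,9,4,9],
   [4,10,4,10],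
   [4,11,4,11],
   [5,5],
   [5,6,5,6,5,6],
   [5,7,5,7],
   [5,8,5,8],
   [5,9,5,9],
   [5,10,5,10,5,10],
   [5,11,5,11],
   [6,6],
   [6,7,6,7,6,7],
   [6,8,6,8],
   [6,9,6,9],
   [6,10,6,10],
   [6,11,6,11],
   [7,7],
   [7,8,7,8,7,8],
   [7,9,7,9],
   [7,10,7,10],
   [7,11,7,11],
   [8,8],
   [8,9,8,9,8,9],
   [8,10,8,10],
   [8,11,8,11],
   [9,9],
   [9,10,9,10],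
   [9,11,9,11],
   [10,10],
   [10,11,10,11,10,11],
   [11,11],
   [0,10,7,6,5,4,3,2,10,7,6,5,4,3,2,10,7,6,5,4,3,2,10,7,6,5,4,3,2,10,7,6,5,4,3,2,10,7,6,5,4,3,2,10,7,6,5,4,3,2,10,7,6,5,4,3,2,10,7,6,5,4,3,2],
   [1,2,3,4,5,10,11,6,5,10,7,8,6,7,4,5,6,3,4,5,10,11,7,5,6,3,4,5,10,9,8,7,6,5,4,3,2,3,4,5,6,7,8,9,10,5,4,3,6,5,7,11,10,5,4,3,6,5,4,7,6,8,7,10,5,6,11,10,5,4,3,2,1,2,3,4,5,10,11,6,5,10,7,8,6,7,4,5,6,3,4,5,10,11,7,5,6,3,4,5,10,9,8,7,6,5,4,3,2,3,4,5,6,7,8,9,10,5,4,3,6,5,7,11,10,5,4,3,6,5,4,7,6,8,7,10,5,6,11,10,5,4,3,2]]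

/-- The words of the subgroup, as columns. -/
def subs : List (List Nat) :=
  [[2],[3],[4],[5],[6],[7],[8],[9],[10],[11],[0]]

/-- The inverse of a column. -/
def inv (c : Nat) : Nat := c

end Cfsg.Agent.Lib.TC.D.Fi24b.Tab
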